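import Cfsg.Agent.Lib.Spec.PSpFour.Spectrum
import Cfsg.Agent.Lib.Spec.PSLTwoSpectrum
import Cfsg.Agent.Lib.Spec.Unbounded

/-!
# Semidirect products with the spectrum of `PSp(4, q)`
-/

set_option autoImplicit false
set_option linter.unusedSectionVars false
set_option linter.unusedSimpArgs false
set_option linter.style.haveILetI false

namespace Cfsg.Lib.Spec.PSpFour

open Matrix

universe u v w

section Act

variable {S : Type u} [Group S] {K : Type v} [Field K] {n m : Type w} [Fintype n] [DecidableEq n]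
  [Fintype m] [DecidableEq m]

/-- The action `X ↦ A g X B g⁻¹` on rectangular matrices. -/
noncomputable def sandwich (A : S →* Matrix n n K) (B : S →* Matrix m m K) :
    S →* MulAut (Multiplicative (Matrix n m K)) where
  toFun g := AddEquiv.toMultiplicative
    { toFun := fun X => A g * X * B g⁻¹
      invFun := fun X => A g⁻¹ * X * B g
      left_inv := fun X => by
        show A g⁻¹ * (A g * X * B g⁻¹) * B g = X
        rw [Matrix.mul_assoc (A g) X, ← Matrix.mul_assoc (A g⁻¹), ← map_mul, inv_mul_cancel, map_one,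
          Matrix.one_mul, Matrix.mul_assoc, ← map_mul, inv_mul_cancel, map_one, Matrix.mul_one]
      right_inv := fun X => by
        show A g * (A g⁻¹ * X * B g) * B g⁻¹ = X
        rw [Matrix.mul_assoc (A g⁻¹) X, ← Matrix.mul_assoc (A g), ← map_mul, mul_inv_cancel, map_one,
          Matrix.one_mul, Matrix.mul_assoc, ← map_mul, mul_inv_cancel, map_one, Matrix.mul_one]
      map_add' := fun X Y => by rw [Matrix.mul_add, Matrix.add_mul] }
  map_one' := by
    refine MulEquiv.ext fun X => Multiplicative.toAdd.injective ?_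
    show A 1 * X.toAdd * B 1⁻¹ = X.toAdd
    rw [inv_one, map_one, map_one, Matrix.one_mul, Matrix.mul_one]
  map_mul' g h := by
    refine MulEquiv.ext fun X => Multiplicative.toAdd.injective ?_
    show A (g * h) * X.toAdd * B (g * h)⁻¹ = A g * (A h * X.toAdd * B h⁻¹) * B g⁻¹
    rw [_root_.mul_inv_rev, map_mul, map_mul]
    simp only [Matrix.mul_assoc]

theorem sandwich_apply (A : S →* Matrix n n K) (B : S →* Matrix m m K) (g : S) (X : Matrix n m K) :
    (sandwich A B g (Multiplicative.ofAdd X)).toAdd = A g * X * B g⁻¹ := rfl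

theorem sandwich_fixed_iff (A : S →* Matrix n n K) (B : S →* Matrix m m K) (g : S)
    (w : Multiplicative (Matrix n m K)) :
    sandwich A B g w = w ↔ A g * w.toAdd = w.toAdd * B g := by
  constructor
  · intro h
    have h1 : A g * w.toAdd * B g⁻¹ = w.toAdd := congrArg Multiplicative.toAdd h
    conv_rhs => rw [← h1]
    rw [Matrix.mul_assoc, ← map_mul, inv_mul_cancel, map_one, Matrix.mul_one]
  · intro h
    refine Multiplicative.toAdd.injective ?_
    show A g * w.toAdd * B g⁻¹ = w.toAdd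
    rw [h, Matrix.mul_assoc, ← map_mul, mul_inv_cancel, map_one, Matrix.mul_one]

theorem sandwich_exponent (p : ℕ) [CharP K p] (w : Multiplicative (Matrix n m K)) : w ^ p = 1 := by
  refine Multiplicative.toAdd.injective ?_
  rw [toAdd_pow, toAdd_one]
  ext i j
  rw [Matrix.smul_apply, nsmul_eq_mul, CharP.cast_eq_zero, zero_mul, Matrix.zero_apply]

end Act

section Semi

variable {S : Type u} [Group S] {W : Type v} [CommGroup W] {φ : S →* MulAut W} {p : ℕ}

theorem right_pow (x : W ⋊[φ] S) (n : ℕ) : (x ^ n).right = x.right ^ n :=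
  map_pow SemidirectProduct.rightHom x n

theorem pow_eq_one_of_no_fixed (x : W ⋊[φ] S) {n : ℕ} (hn : x.right ^ n = 1)
    (hfix : ∀ w : W, φ x.right w = w → w = 1) : x ^ n = 1 := by
  have hr : (x ^ n).right = 1 := (right_pow x n).trans hn
  refine SemidirectProduct.ext (hfix _ ?_) hr
  have h := congrArg SemidirectProduct.left ((Commute.self_pow x n).eq)
  rw [SemidirectProduct.mul_left, SemidirectProduct.mul_left, hr, map_one, MulAut.one_apply,
    mul_comm (x ^ n).left] at h
  exact mul_left_cancel h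

theorem pow_mul_eq_one (hW : ∀ w : W, w ^ p = 1) (x : W ⋊[φ] S) {n : ℕ} (hn : x.right ^ n = 1) :
    x ^ (n * p) = 1 := by
  have h : x ^ n = SemidirectProduct.inl (x ^ n).left :=
    SemidirectProduct.ext rfl ((right_pow x n).trans hn)
  rw [pow_mul, h, ← map_pow, hW, map_one]

theorem exists_orderOf_mul [hp : Fact p.Prime] (hW : ∀ w : W, w ^ p = 1) {g : S} {w : W} (hw : w ≠ 1)
    (hfix : φ g w = w) (hg : ¬ p ∣ orderOf g) : ∃ x : W ⋊[φ] S, orderOf x = p * orderOf g := by
  refine ⟨SemidirectProduct.inl w * SemidirectProduct.inr g, ?_⟩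
  have hc : Commute (SemidirectProduct.inl w : W ⋊[φ] S) (SemidirectProduct.inr g) := by
    refine SemidirectProduct.ext ?_ ?_ <;> simp [hfix]
  have ho1 : orderOf (SemidirectProduct.inl w : W ⋊[φ] S) = p := by
    rw [orderOf_injective _ SemidirectProduct.inl_injective]
    exact orderOf_eq_prime (hW w) hw
  have ho2 : orderOf (SemidirectProduct.inr g : W ⋊[φ] S) = orderOf g :=
    orderOf_injective _ SemidirectProduct.inr_injective g
  rw [hc.orderOf_mul_eq_mul_orderOf_of_coprime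
    (by rw [ho1, ho2]; exact hp.out.coprime_iff_not_dvd.2 hg), ho1, ho2]

/-- The maximal allowed orders. -/
def IsTop (p q N : ℕ) : Prop :=
  N = (q ^ 2 + 1) / Nat.gcd 2 (q - 1) ∨ N = (q ^ 2 - 1) / Nat.gcd 2 (q - 1) ∨ N = p * (q - 1) ∨
    N = p * (q + 1) ∨ (p = 2 ∧ N = 4) ∨ (p = 3 ∧ N = 9)

theorem top_allowed {p q N : ℕ} (h : IsTop p q N) : N ∈ allowed p q := by
  rcases h with rfl | rfl | rfl | rfl | ⟨h0, rfl⟩ | ⟨h0, rfl⟩
  · exact Or.inl dvd_rfl
  · exact Or.inr (Or.inl dvd_rfl)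
  · exact Or.inr (Or.inr (Or.inl dvd_rfl))
  · exact Or.inr (Or.inr (Or.inr (Or.inl dvd_rfl)))
  · exact Or.inr (Or.inr (Or.inr (Or.inr (Or.inl ⟨h0, dvd_rfl⟩))))
  · exact Or.inr (Or.inr (Or.inr (Or.inr (Or.inr ⟨h0, dvd_rfl⟩))))

theorem exists_top {p q m : ℕ} (h : m ∈ allowed p q) : ∃ N, IsTop p q N ∧ m ∣ N := by
  rcases h with h | h | h | h | ⟨h0, h⟩ | ⟨h0, h⟩
  · exact ⟨_, Or.inl rfl, h⟩
  · exact ⟨_, Or.inr (Or.inl rfl), h⟩
  · exact ⟨_, Or.inr (Or.inr (Or.inl rfl)), h⟩
  · exact ⟨_, Or.inr (Or.inr (Or.inr (Or.inl rfl))), h⟩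
  · exact ⟨_, Or.inr (Or.inr (Or.inr (Or.inr (Or.inl ⟨h0, rfl⟩)))), h⟩
  · exact ⟨_, Or.inr (Or.inr (Or.inr (Or.inr (Or.inr ⟨h0, rfl⟩)))), h⟩

/-- A semidirect product with the spectrum of `PSp(4, q)` yields arbitrarily large ones. -/
theorem conclude [Finite S] [Finite W] [Nontrivial W] {F : Type w} [Field F] [Fintype F] [hp : Fact p.Prime]
    [CharP F p] (hq : 3 ≤ Fintype.card F) (hW : ∀ a : W, a ^ p = 1)
    (hupper : ∀ x : W ⋊[φ] S, orderOf x ∈ allowed p (Fintype.card F))
    (hlower : ∀ N, IsTop p (Fintype.card F) N → ∃ x : W ⋊[φ] S, N ∣ orderOf x) (N : ℕ) :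
    ∃ (H : Type) (_ : Group H) (_ : Fintype H), N < Fintype.card H ∧
      Set.range (orderOf : H → ℕ) = Set.range (orderOf : Cfsg.PSp 2 F → ℕ) := by
  classical
  haveI : Finite (W ⋊[φ] S) := Finite.of_equiv _ SemidirectProduct.equivProd.symm
  have hspec : Set.range (orderOf : W ⋊[φ] S → ℕ) = Set.range (orderOf : Cfsg.PSp 2 F → ℕ) := by
    rw [spectrum_eq p hq]
    ext m
    refine ⟨?_, fun hm => ?_⟩
    · rintro ⟨x, rfl⟩; exact hupper x
    · obtain ⟨M, hM, hmM⟩ := exists_top hm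
      obtain ⟨x, hx⟩ := hlower M hM
      exact ⟨x ^ (orderOf x / m), orderOf_pow_orderOf_div (orderOf_pos x).ne' (hmM.trans hx)⟩
  have hn : (SemidirectProduct.inl : W →* W ⋊[φ] S).range.Normal := by
    rw [SemidirectProduct.range_inl_eq_ker_rightHom]
    infer_instance
  have hne : (SemidirectProduct.inl : W →* W ⋊[φ] S).range ≠ ⊥ := by
    intro h
    obtain ⟨a, ha⟩ := exists_ne (1 : W)
    have : (SemidirectProduct.inl a : W ⋊[φ] S) ∈ (⊥ : Subgroup (W ⋊[φ] S)) := h ▸ ⟨a, rfl⟩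
    rw [Subgroup.mem_bot] at this
    exact ha (SemidirectProduct.inl_injective (by rw [this, map_one]))
  obtain ⟨H, i1, i2, h1, h2⟩ := Cfsg.Lib.Spec.exists_isospectral_large
    (SemidirectProduct.inl : W →* W ⋊[φ] S).range hne hp.out (by
      rintro _ ⟨a, rfl⟩
      rw [← map_pow, hW, map_one]) N
  exact ⟨H, i1, i2, h1, h2.trans hspec⟩

end Semi

end Cfsg.Lib.Spec.PSpFour
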