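import Cfsg.Agent.Lib.Spec.PSpFour.Cover
import Mathlib.LinearAlgebra.Matrix.ToLin

/-!
# Covers in characteristic at least five

The stabilizer of a quadratic field structure acts on the matrices anticommuting with it.
-/

set_option autoImplicit false
set_option linter.unusedSectionVars false
set_option linter.unusedSimpArgs false
set_option linter.style.haveILetI false

namespace Cfsg.Lib.Spec.PSpFour

open Matrix Polynomial

universe u

variable {F : Type u} [Field F] [Fintype F] {p : ℕ} [hp : Fact p.Prime] [CharP F p]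

local notation "ι" => (Fin 2 ⊕ Fin 2)
local notation "M4" => Matrix (Fin 2 ⊕ Fin 2) (Fin 2 ⊕ Fin 2) F
local notation "Sp4" => Matrix.symplecticGroup (Fin 2) F
local notation "M2" => Matrix (Fin 2) (Fin 2) F

/-- The symmetric matrix giving the field structure. -/
def symA (s t : F) : M2 := !![s, t; t, -s]

/-- The field structure. -/
def jay (s t : F) : M4 := Matrix.fromBlocks (symA s t) 0 0 (symA s t)

theorem symA_sq (s t : F) : symA s t * symA s t = (s ^ 2 + t ^ 2) • 1 := by
  ext i j
  fin_cases i <;> fin_cases j <;> simp [symA, Matrix.mul_apply, Fin.sum_univ_two] <;> ring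

theorem symA_transpose (s t : F) : (symA s t)ᵀ = symA s t := by
  ext i j
  fin_cases i <;> fin_cases j <;> rfl

theorem jay_sq (s t : F) : jay s t * jay s t = (s ^ 2 + t ^ 2) • 1 := by
  rw [jay, Matrix.fromBlocks_multiply, ← Matrix.fromBlocks_one, Matrix.fromBlocks_smul]
  simp [symA_sq]

/-- The centralizer of the field structure on the plane. -/
theorem exists_comb {s t : F} (ht : t ≠ 0) (h2 : (2 : F) ≠ 0) {y : M2} (h : y * symA s t = symA s t * y) :
    ∃ a b : F, y = a • symA s t + b • 1 := by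
  have e00 := congrFun (congrFun h 0) 0
  have e01 := congrFun (congrFun h 0) 1
  simp [symA, Matrix.mul_apply, Fin.sum_univ_two] at e00 e01
  have hcb : y 1 0 = y 0 1 := mul_left_cancel₀ ht (by linear_combination -e00)
  refine ⟨y 0 1 / t, y 1 1 + s * (y 0 1 / t), ?_⟩
  ext i j
  fin_cases i <;> fin_cases j <;> simp [symA, Matrix.one_apply]
  · field_simp
    linear_combination e01
  · field_simp
  · rw [hcb]; field_simp
  · ring

variable (s t : F)

/-- The stabilizer of the field structure up to sign. -/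
def stab : Subgroup Sp4 where
  carrier := {g | ∃ c : F, c * c = 1 ∧ (g : M4) * jay s t = c • (jay s t * (g : M4))}
  one_mem' := ⟨1, one_mul 1, by simp⟩
  mul_mem' {a b} := by
    rintro ⟨c, hc, ha⟩ ⟨d, hd, hb⟩
    refine ⟨c * d, by linear_combination hc + c * c * hd, ?_⟩
    show (a : M4) * (b : M4) * jay s t = (c * d) • (jay s t * ((a : M4) * (b : M4)))
    rw [mul_assoc, hb, Matrix.mul_smul, ← mul_assoc, ha, Matrix.smul_mul, smul_smul, mul_comm d, mul_assoc]
  inv_mem' {a} := by
    rintro ⟨c, hc, ha⟩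
    refine ⟨c, hc, ?_⟩
    have h1 : ((a⁻¹ : Sp4) : M4) * (a : M4) = 1 := by rw [← Submonoid.coe_mul, inv_mul_cancel]; rfl
    have h2 : (a : M4) * ((a⁻¹ : Sp4) : M4) = 1 := by rw [← Submonoid.coe_mul, mul_inv_cancel]; rfl
    calc ((a⁻¹ : Sp4) : M4) * jay s t = ((a⁻¹ : Sp4) : M4) * (jay s t * (a : M4)) * ((a⁻¹ : Sp4) : M4) := by
          rw [mul_assoc, mul_assoc, h2, mul_one]
      _ = ((a⁻¹ : Sp4) : M4) * (c • ((a : M4) * jay s t)) * ((a⁻¹ : Sp4) : M4) := by
          rw [ha, smul_smul, hc, one_smul]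
      _ = c • (jay s t * ((a⁻¹ : Sp4) : M4)) := by
          rw [Matrix.mul_smul, Matrix.smul_mul, ← mul_assoc (a⁻¹ : Sp4).1, h1, one_mul]

/-- The anticommutant. -/
def anti : AddSubgroup M4 where
  carrier := {X | X * jay s t = -(jay s t * X)}
  zero_mem' := by simp
  add_mem' {a b} ha hb := by
    show (a + b) * jay s t = -(jay s t * (a + b))
    rw [add_mul, mul_add, ha, hb, neg_add]
  neg_mem' {a} ha := by
    show -a * jay s t = -(jay s t * -a)
    rw [neg_mul, mul_neg, ha]

theorem conj_mem (g : stab s t) {X : M4} (hX : X ∈ anti s t) :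
    ((g : Sp4) : M4) * X * (((g⁻¹ : stab s t) : Sp4) : M4) ∈ anti s t := by
  obtain ⟨c, hc, hg⟩ := g.2
  obtain ⟨d, hd, hg'⟩ := (g⁻¹).2
  have h12 : (((g⁻¹ : stab s t) : Sp4) : M4) * ((g : Sp4) : M4) = 1 := by
    rw [← Submonoid.coe_mul, ← Subgroup.coe_mul, inv_mul_cancel]; rfl
  by_cases hJ : jay s t = 0
  · show _ * jay s t = _
    simp [hJ]
  have hdc : d * c = 1 := by
    have h1 : jay s t = (d * c) • jay s t := by
      calc jay s t = (((g⁻¹ : stab s t) : Sp4) : M4) * (((g : Sp4) : M4) * jay s t) := by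
            rw [← mul_assoc, h12, one_mul]
        _ = (d * c) • jay s t := by
            rw [hg, Matrix.mul_smul, ← mul_assoc, hg', Matrix.smul_mul, mul_assoc, h12, mul_one, smul_smul, mul_comm]
    have h3 : (d * c - 1) • jay s t = 0 := by rw [sub_smul, one_smul, ← h1, sub_self]
    exact sub_eq_zero.1 ((smul_eq_zero.1 h3).resolve_right hJ)
  show _ * jay s t = -(jay s t * _)
  rw [mul_assoc, hg', Matrix.mul_smul, ← mul_assoc, mul_assoc ((g : Sp4) : M4) X (jay s t), hX, mul_neg,
    ← mul_assoc, hg, Matrix.smul_mul, neg_mul, Matrix.smul_mul, smul_neg, smul_smul, hdc, one_smul]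
  simp only [mul_assoc]

/-- Conjugation on the anticommutant. -/
def conjHom : stab s t →* MulAut (Multiplicative (anti s t)) where
  toFun g := AddEquiv.toMultiplicative
    { toFun := fun X => ⟨((g : Sp4) : M4) * X.1 * (((g⁻¹ : stab s t) : Sp4) : M4), conj_mem s t g X.2⟩
      invFun := fun X => ⟨(((g⁻¹ : stab s t) : Sp4) : M4) * X.1 * (((g⁻¹⁻¹ : stab s t) : Sp4) : M4),
        conj_mem s t g⁻¹ X.2⟩
      left_inv := fun X => by
        apply Subtype.ext
        show (((g⁻¹ : stab s t) : Sp4) : M4) * (((g : Sp4) : M4) * X.1 * (((g⁻¹ : stab s t) : Sp4) : M4)) *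
          (((g⁻¹⁻¹ : stab s t) : Sp4) : M4) = X.1
        rw [inv_inv, mul_assoc ((g : Sp4) : M4), ← mul_assoc (((g⁻¹ : stab s t) : Sp4) : M4),
          ← Submonoid.coe_mul, ← Subgroup.coe_mul, inv_mul_cancel, Subgroup.coe_one, Submonoid.coe_one, one_mul,
          mul_assoc, ← Submonoid.coe_mul, ← Subgroup.coe_mul, inv_mul_cancel, Subgroup.coe_one, Submonoid.coe_one,
          mul_one]
      right_inv := fun X => by
        apply Subtype.ext
        show ((g : Sp4) : M4) * ((((g⁻¹ : stab s t) : Sp4) : M4) * X.1 * (((g⁻¹⁻¹ : stab s t) : Sp4) : M4)) *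
          (((g⁻¹ : stab s t) : Sp4) : M4) = X.1
        rw [inv_inv, mul_assoc (((g⁻¹ : stab s t) : Sp4) : M4), ← mul_assoc ((g : Sp4) : M4),
          ← Submonoid.coe_mul, ← Subgroup.coe_mul, mul_inv_cancel, Subgroup.coe_one, Submonoid.coe_one, one_mul,
          mul_assoc, ← Submonoid.coe_mul, ← Subgroup.coe_mul, mul_inv_cancel, Subgroup.coe_one, Submonoid.coe_one,
          mul_one]
      map_add' := fun X Y => Subtype.ext (by
        show _ * (X.1 + Y.1) * _ = _
        rw [mul_add, add_mul]; rfl) }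
  map_one' := by
    refine MulEquiv.ext fun X => Multiplicative.toAdd.injective (Subtype.ext ?_)
    show ((1 : Sp4) : M4) * (X.toAdd).1 * (((1⁻¹ : stab s t) : Sp4) : M4) = (X.toAdd).1
    rw [inv_one]
    simp
  map_mul' g h := by
    refine MulEquiv.ext fun X => Multiplicative.toAdd.injective (Subtype.ext ?_)
    show (((g * h : stab s t) : Sp4) : M4) * (X.toAdd).1 * ((((g * h)⁻¹ : stab s t) : Sp4) : M4) =
      ((g : Sp4) : M4) * (((h : Sp4) : M4) * (X.toAdd).1 * (((h⁻¹ : stab s t) : Sp4) : M4)) *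
        (((g⁻¹ : stab s t) : Sp4) : M4)
    rw [_root_.mul_inv_rev, Subgroup.coe_mul, Subgroup.coe_mul, Submonoid.coe_mul, Submonoid.coe_mul]
    simp only [mul_assoc]

/-- The map to the projective group. -/
def toPSp : stab s t →* Cfsg.PSp 2 F := (QuotientGroup.mk' _).comp (stab s t).subtype

theorem toPSp_pow_iff (g : stab s t) (n : ℕ) :
    toPSp s t g ^ n = 1 ↔ ∃ c : F, c ^ 2 = 1 ∧ ((g : Sp4) : M4) ^ n = c • 1 := mk_pow_eq_one_iff _ n

/-- The projective stabilizer. -/
abbrev StabQ := stab s t ⧸ (toPSp s t).ker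

/-- Its action. -/
def conjQ : StabQ s t →* MulAut (Multiplicative (anti s t)) :=
  QuotientGroup.lift _ (conjHom s t) (by
    intro g hg
    rw [MonoidHom.mem_ker] at hg ⊢
    obtain ⟨c, hc, hgc⟩ := (toPSp_pow_iff s t g 1).1 (by rw [pow_one]; exact hg)
    rw [pow_one] at hgc
    have hinv : (((g⁻¹ : stab s t) : Sp4) : M4) = c • 1 := by
      have h1 : (((g⁻¹ : stab s t) : Sp4) : M4) * ((g : Sp4) : M4) = 1 := by
        rw [← Submonoid.coe_mul, ← Subgroup.coe_mul, inv_mul_cancel]; rfl
      rw [hgc, Matrix.mul_smul, mul_one] at h1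
      rw [← h1, smul_smul, ← sq, hc, one_smul]
    refine MulEquiv.ext fun X => Multiplicative.toAdd.injective (Subtype.ext ?_)
    show ((g : Sp4) : M4) * (X.toAdd).1 * (((g⁻¹ : stab s t) : Sp4) : M4) = (X.toAdd).1
    rw [hgc, hinv, Matrix.smul_mul, Matrix.mul_smul, Matrix.smul_mul, one_mul, mul_one, smul_smul, ← sq, hc,
      one_smul])

theorem orderOf_stabQ (y : StabQ s t) : orderOf (QuotientGroup.kerLift (toPSp s t) y) = orderOf y :=
  orderOf_injective _ (QuotientGroup.kerLift_injective _) y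

theorem stabQ_pow {g : stab s t} {n : ℕ} {c : F} (hc : c ^ 2 = 1) (h : ((g : Sp4) : M4) ^ n = c • 1) :
    (QuotientGroup.mk g : StabQ s t) ^ n = 1 :=
  QuotientGroup.kerLift_injective _ (by rw [map_pow, map_one]; exact (toPSp_pow_iff s t g n).2 ⟨c, hc, h⟩)

/-- Iterates of conjugation by `g` sum to `(T - 1) ^ (p - 1)`, which vanishes on a quadratic unipotent. -/
theorem unip_sum (hp5 : 5 ≤ p) {A B : M4} (hAB : A * B = 1) (hBA : B * A = 1) {ε : F} (hN : (A - ε • 1) ^ 2 = 0) (Y : M4) :
    ∑ i ∈ Finset.range p, A ^ i * Y * B ^ i = 0 := by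
  set T : Module.End F M4 := (LinearMap.mulLeft F A).comp (LinearMap.mulRight F B) with hT
  have hpow : ∀ i : ℕ, (T ^ i) Y = A ^ i * Y * B ^ i := by
    intro i
    induction i with
    | zero => simp
    | succ i ih =>
      rw [pow_succ' T, Module.End.mul_apply, ih, pow_succ' A, pow_succ B]
      show A * (A ^ i * Y * B ^ i * B) = _
      simp only [mul_assoc]
  have hgeom : (∑ i ∈ Finset.range p, (Polynomial.X : F[X]) ^ i) = (Polynomial.X - 1) ^ (p - 1) := by
    refine mul_right_cancel₀ (Polynomial.X_sub_C_ne_zero (1 : F)) ?_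
    rw [map_one, geom_sum_mul, ← pow_succ, Nat.sub_add_cancel hp.out.one_le, sub_pow_char, one_pow]
  have hsum : ∑ i ∈ Finset.range p, A ^ i * Y * B ^ i = ((T - 1) ^ (p - 1)) Y := by
    have h := congrArg (fun P => (aeval T P) Y) hgeom
    simp only [map_sum, map_pow, aeval_X, map_sub, map_one, LinearMap.sum_apply, hpow] at h
    exact h
  rw [hsum]
  set N : M4 := A - ε • 1 with hNd
  have hcomm : N * B = B * N := by
    rw [hNd, sub_mul, mul_sub, hAB, hBA, Matrix.smul_mul, Matrix.mul_smul, one_mul, mul_one]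
  have hstep : ∀ Z : M4, (T - 1) Z = (N * Z - Z * N) * B := by
    intro Z
    rw [LinearMap.sub_apply, Module.End.one_apply]
    show A * (Z * B) - Z = _
    rw [hNd, sub_mul A, mul_sub Z, Matrix.smul_mul, one_mul, Matrix.mul_smul, mul_one, sub_sub_sub_cancel_right,
      sub_mul, mul_assoc A, mul_assoc Z A B, hAB, mul_one]
  have hD : ∀ Z : M4, N * (Z * B) - Z * B * N = (N * Z - Z * N) * B := fun Z => by
    rw [sub_mul (N * Z) (Z * N) B, mul_assoc Z B N, ← hcomm, ← mul_assoc Z N B, mul_assoc N Z B]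
  have hcube : ∀ Z : M4, ((T - 1) ^ 3 : Module.End F M4) Z = 0 := by
    intro Z
    rw [pow_succ, sq, Module.End.mul_apply, Module.End.mul_apply, hstep Z, hstep ((N * Z - Z * N) * B), hD,
      hstep ((N * (N * Z - Z * N) - (N * Z - Z * N) * N) * B * B), hD, hD]
    have hN' : N * N = 0 := by rw [← sq]; exact hN
    have h0 : N * (N * (N * Z - Z * N) - (N * Z - Z * N) * N) - (N * (N * Z - Z * N) - (N * Z - Z * N) * N) * N
        = 0 := by
      simp only [mul_sub, sub_mul, ← mul_assoc, hN', zero_mul]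
      simp only [mul_assoc, hN', mul_zero, sub_zero, zero_sub]
      simp
    rw [h0, zero_mul, zero_mul, zero_mul]
  obtain ⟨m, hm⟩ : ∃ m, p - 1 = m + 3 := ⟨p - 4, by omega⟩
  rw [hm, pow_add, Module.End.mul_apply, hcube, map_zero]

variable {s t}

theorem pow_left_eq (x : Multiplicative (anti s t) ⋊[conjQ s t] StabQ s t) {g : stab s t}
    (hg : x.right = QuotientGroup.mk g) (n : ℕ) : ((x ^ n).left.toAdd).1 =
      ∑ i ∈ Finset.range n, ((g : Sp4) : M4) ^ i * (x.left.toAdd).1 * (((g⁻¹ : stab s t) : Sp4) : M4) ^ i := by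
  induction n with
  | zero => simp
  | succ n ih =>
    rw [pow_succ, SemidirectProduct.mul_left, right_pow, hg, ← QuotientGroup.mk_pow, Finset.sum_range_succ]
    show ((x ^ n).left.toAdd).1 + ((g ^ n : stab s t) : Sp4).1 * (x.left.toAdd).1 *
      ((((g ^ n)⁻¹ : stab s t) : Sp4) : M4) = _
    rw [ih, inv_pow g n |>.symm]
    simp [SubmonoidClass.coe_pow, ← inv_pow]

theorem unip_pow_eq_one (hp5 : 5 ≤ p) (x : Multiplicative (anti s t) ⋊[conjQ s t] StabQ s t) {g : stab s t}
    (hg : x.right = QuotientGroup.mk g) {ε : F} (hε : ε ^ 2 = 1) (hN : (((g : Sp4) : M4) - ε • 1) ^ 2 = 0) :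
    x ^ p = 1 := by
  have hgp : ((g : Sp4) : M4) ^ p = (ε ^ p) • 1 := by
    have h2 := sub_pow_char_of_commute (R := M4) (p := p) (x := ((g : Sp4) : M4)) (y := ε • 1)
      (Commute.smul_right (Commute.one_right _) ε)
    rw [pow_eq_zero_of_le hp.out.two_le hN, _root_.smul_pow, one_pow, eq_comm, sub_eq_zero] at h2
    exact h2
  refine SemidirectProduct.ext ?_ ?_
  · refine Multiplicative.toAdd.injective (Subtype.ext ?_)
    rw [pow_left_eq x hg]
    exact unip_sum hp5 (by rw [← Submonoid.coe_mul, ← Subgroup.coe_mul, mul_inv_cancel]; rfl)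
      (by rw [← Submonoid.coe_mul, ← Subgroup.coe_mul, inv_mul_cancel]; rfl) hN _
  · rw [right_pow, hg]
    exact stabQ_pow s t (c := ε ^ p) (by rw [← pow_mul, mul_comm, pow_mul, hε, one_pow]) hgp

/-- Relations in the centralizer of the field structure. -/
theorem exists_trace (ht : t ≠ 0) (h2 : (2 : F) ≠ 0) {g : Sp4} (hg : (g : M4) * jay s t = jay s t * (g : M4)) :
    ∃ a b : F, (g : M4) * (g : M4) - (a • jay s t + b • 1) * (g : M4) + 1 = 0 := by
  have hblocks := hg
  rw [jay, ← Matrix.fromBlocks_toBlocks (g : M4), Matrix.fromBlocks_multiply, Matrix.fromBlocks_multiply,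
    Matrix.fromBlocks_inj] at hblocks
  obtain ⟨h11, h12, h21, h22⟩ := hblocks
  simp only [Matrix.mul_zero, Matrix.zero_mul, add_zero, zero_add] at h11 h12 h21 h22
  obtain ⟨a₁, b₁, e₁⟩ := exists_comb ht h2 h11
  obtain ⟨a₂, b₂, e₂⟩ := exists_comb ht h2 h12
  obtain ⟨a₃, b₃, e₃⟩ := exists_comb ht h2 h21
  obtain ⟨a₄, b₄, e₄⟩ := exists_comb ht h2 h22
  set A := symA s t
  have hM : (g : M4) = Matrix.fromBlocks (a₁ • A + b₁ • 1) (a₂ • A + b₂ • 1) (a₃ • A + b₃ • 1) (a₄ • A + b₄ • 1) := by
    rw [← e₁, ← e₂, ← e₃, ← e₄, Matrix.fromBlocks_toBlocks]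
  have hs : (a₂ • A + b₂ • 1) * (a₃ • A + b₃ • 1) - (a₁ • A + b₁ • 1) * (a₄ • A + b₄ • 1) = -1 := by
    have h := SymplecticGroup.mem_iff.1 g.2
    rw [hM, Matrix.J, Matrix.fromBlocks_transpose, Matrix.fromBlocks_multiply, Matrix.fromBlocks_multiply,
      Matrix.fromBlocks_inj] at h
    have h' := h.2.1
    simp [symA_transpose, A] at h'
    rw [← h']
    simp only [A]
    noncomm_ring
    module
  refine ⟨a₁ + a₄, b₁ + b₄, ?_⟩
  have hΔ : (a₁ + a₄) • jay s t + (b₁ + b₄) • (1 : M4) =
      Matrix.fromBlocks ((a₁ + a₄) • A + (b₁ + b₄) • 1) 0 0 ((a₁ + a₄) • A + (b₁ + b₄) • 1) := by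
    rw [jay, ← Matrix.fromBlocks_one, Matrix.fromBlocks_smul, Matrix.fromBlocks_smul, Matrix.fromBlocks_add]
    simp [A]
  rw [hΔ, hM, Matrix.fromBlocks_multiply, Matrix.fromBlocks_multiply, sub_eq_add_neg, Matrix.fromBlocks_neg,
    ← Matrix.fromBlocks_one, Matrix.fromBlocks_add, Matrix.fromBlocks_add, ← Matrix.fromBlocks_zero,
    Matrix.fromBlocks_inj]
  have hs' : (1 : M2) = (a₁ • A + b₁ • 1) * (a₄ • A + b₄ • 1) - (a₂ • A + b₂ • 1) * (a₃ • A + b₃ • 1) := by
    rw [← neg_sub, hs, neg_neg]
  refine ⟨?_, ?_, ?_, ?_⟩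
  · conv_lhs => arg 2; rw [hs']
    simp only [mul_add, add_mul, Matrix.smul_mul, Matrix.mul_smul, smul_smul, mul_one, one_mul, Matrix.zero_mul]
    module
  · simp only [mul_add, add_mul, Matrix.smul_mul, Matrix.mul_smul, smul_smul, mul_one, one_mul, Matrix.zero_mul]
    module
  · simp only [mul_add, add_mul, Matrix.smul_mul, Matrix.mul_smul, smul_smul, mul_one, one_mul, Matrix.zero_mul]
    module
  · conv_lhs => arg 2; rw [hs']
    simp only [mul_add, add_mul, Matrix.smul_mul, Matrix.mul_smul, smul_smul, mul_one, one_mul, Matrix.zero_mul]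
    module

theorem even_card (h2 : (2 : F) ≠ 0) : Odd (Fintype.card F) :=
  Nat.odd_iff.2 (FiniteField.odd_card_of_char_ne_two (F := F) fun h => h2 (by
    haveI := ringChar.of_eq h
    exact_mod_cast CharP.cast_eq_zero F 2))

theorem frob_root {u r : AlgebraicClosure F} (hu : u ^ Fintype.card F = u) (hr : r ^ 2 - u * r + 1 = 0) :
    r ^ (Fintype.card F - 1) = 1 ∨ r ^ (Fintype.card F + 1) = 1 := by
  set φ := FiniteField.frobeniusAlgHom F (AlgebraicClosure F)
  have hr0 : r ≠ 0 := by rintro rfl; simp at hr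
  have hu' : φ u = u := hu
  have h1 : φ r ^ 2 - u * φ r + 1 = 0 := by simpa [hu'] using congrArg φ hr
  exact (root_eq hr h1).imp (pow_pred hr0 Fintype.card_pos) (pow_succ_inv hr0)

/-- A quartic `X⁴ - b X² + 1` with distinct roots makes a projective power trivial. -/
theorem quartic_pow (h2 : (2 : F) ≠ 0) {M : M4} {b : F} (hM : aeval M (X ^ 4 - C b * X ^ 2 + 1) = 0)
    {ρ : AlgebraicClosure F} (hρ : ρ ^ 2 - algebraMap F _ b * ρ + 1 = 0) (hne : ρ * ρ ≠ 1)
    {k : ℕ} (hk : Even k) (hρk : ρ ^ k = 1) : ∃ c : F, c ^ 2 = 1 ∧ M ^ k = c • 1 := by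
  obtain ⟨r, hr⟩ := IsAlgClosed.exists_pow_nat_eq ρ (n := 2) two_pos
  have hr0 : r ≠ 0 := by
    rintro rfl
    rw [← hr] at hρ
    simp at hρ
  obtain ⟨c, hc, hrc⟩ := exists_sign (F := F) (r := r) (n := k) (by rw [pow_mul, hr, hρk])
  refine ⟨c, hc, pow_eq_of_dvd hM (L := AlgebraicClosure F) ?_⟩
  set u := r + r⁻¹
  have hu : r ^ 2 - u * r + 1 = 0 := by simp only [u]; field_simp; ring
  have hu' : (-r) ^ 2 - -u * -r + 1 = 0 := by linear_combination hu
  have hb : algebraMap F (AlgebraicClosure F) b = u ^ 2 - 2 := by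
    have hρ0 : ρ ≠ 0 := hr ▸ pow_ne_zero _ hr0
    refine mul_right_cancel₀ hρ0 ?_
    simp only [u]
    rw [← hr] at hρ ⊢
    field_simp
    linear_combination -hρ
  have h1 : (X ^ 4 - C b * X ^ 2 + 1).map (algebraMap F (AlgebraicClosure F)) = quad u * quad (-u) := by
    simp only [Polynomial.map_add, Polynomial.map_sub, Polynomial.map_mul, Polynomial.map_pow, map_X, map_C,
      Polynomial.map_one, hb, quad, C_sub, C_neg, C_pow, map_ofNat]
    ring
  rw [h1]
  have hc' : (algebraMap F (AlgebraicClosure F) c) ^ 2 = 1 := by rw [← map_pow, hc, map_one]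
  have hne1 : r ≠ r⁻¹ := fun e => hne (by
    have : r * r = 1 := by nth_rewrite 2 [e]; exact mul_inv_cancel₀ hr0
    rw [← hr, sq, this, one_mul])
  have h2L : (2 : AlgebraicClosure F) ≠ 0 := by
    rw [← map_ofNat (algebraMap F (AlgebraicClosure F)) 2]
    exact fun h => h2 ((algebraMap F (AlgebraicClosure F)).injective (by rw [h, map_zero]))
  have hune : u ≠ -u := fun e => hne (by
    have h0 : u = 0 := (mul_eq_zero.1 (show (2 : AlgebraicClosure F) * u = 0 by linear_combination e)).resolve_left h2L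
    have : r ^ 2 = -1 := by linear_combination hu + r * h0
    rw [← hr, this]; ring)
  exact (isCoprime_quad hune).mul_dvd (quad_dvd hu hne1 hrc hc')
    (quad_dvd hu' (fun e => hne1 (by rw [inv_neg] at e; exact neg_injective e)) (by rw [hk.neg_pow, hrc]) hc')

theorem mult_mem_of_fixed (ht : t ≠ 0) (hp5 : 5 ≤ p) (hν : ¬ IsSquare (s ^ 2 + t ^ 2))
    (x : Multiplicative (anti s t) ⋊[conjQ s t] StabQ s t) : orderOf x ∈ allowed p (Fintype.card F) := by
  classical
  have h2 : (2 : F) ≠ 0 := by
    intro h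
    have := (CharP.cast_eq_zero_iff F p 2).1 (by exact_mod_cast h)
    have := Nat.le_of_dvd two_pos this
    omega
  have hν0 : s ^ 2 + t ^ 2 ≠ 0 := fun e => hν (by rw [e]; exact IsSquare.zero)
  obtain ⟨g, hg⟩ := QuotientGroup.mk_surjective x.right
  by_cases h : ∃ w, w ≠ 1 ∧ conjQ s t x.right w = w
  swap
  · push Not at h
    exact allowed_down (show orderOf x.right ∈ allowed p (Fintype.card F) by
        rw [← orderOf_stabQ]; exact orderOf_mem p _)
      (orderOf_dvd_of_pow_eq_one (pow_eq_one_of_no_fixed x (pow_orderOf_eq_one _)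
        fun w hw => by_contra fun hne => h w hne hw))
  obtain ⟨w, hw, hwf⟩ := h
  set X : M4 := (w.toAdd).1
  have hX0 : X ≠ 0 := fun e => hw (Multiplicative.toAdd.injective (Subtype.ext e))
  have hXJ : X * jay s t = -(jay s t * X) := (w.toAdd).2
  set M : M4 := ((g : Sp4) : M4) with hMdef
  set Mi : M4 := (((g⁻¹ : stab s t) : Sp4) : M4)
  have hMi : Mi * M = 1 := by rw [← Submonoid.coe_mul, ← Subgroup.coe_mul, inv_mul_cancel]; rfl
  have hiM : M * Mi = 1 := by rw [← Submonoid.coe_mul, ← Subgroup.coe_mul, mul_inv_cancel]; rfl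
  have hfixX : M * X = X * M := by
    rw [← hg] at hwf
    have h1 : M * X * Mi = X := congrArg (fun z => (Multiplicative.toAdd z).1) hwf
    calc M * X = M * X * (Mi * M) := by rw [hMi, mul_one]
      _ = X * M := by rw [← mul_assoc, h1]
  set J := jay s t with hJ
  have hJinv : ∀ Z : M4, J * Z = 0 → Z = 0 := fun Z hZ => by
    have h1 : (J * J) * Z = 0 := by rw [mul_assoc, hZ, mul_zero]
    rw [hJ, jay_sq, Matrix.smul_mul, one_mul] at h1
    exact (smul_eq_zero.1 h1).resolve_left hν0
  have hMcancel : ∀ Z : M4, M * Z = 0 → Z = 0 := fun Z hZ => by rw [← one_mul Z, ← hMi, mul_assoc, hZ, mul_zero]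
  have hq := two_le_card (F := F)
  have hqodd := even_card h2
  have hevenA : Even (Fintype.card F - 1) := Nat.Odd.sub_odd hqodd odd_one
  have hevenB : Even (Fintype.card F + 1) := hqodd.add_odd odd_one
  have done_of : ∀ (k : ℕ), k = Fintype.card F - 1 ∨ k = Fintype.card F + 1 → ∀ c : F, c ^ 2 = 1 → M ^ k = c • 1 →
      orderOf x ∈ allowed p (Fintype.card F) := by
    intro k hk c hc hMk
    have h1 : x ^ (k * p) = 1 := pow_mul_eq_one (fun w => Multiplicative.toAdd.injective (Subtype.ext (by
      rw [toAdd_pow, toAdd_one, AddSubgroup.coe_nsmul, ZeroMemClass.coe_zero]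
      ext i j
      rw [Matrix.smul_apply, nsmul_eq_mul, CharP.cast_eq_zero, zero_mul, Matrix.zero_apply]))) x
      (by rw [← hg]; exact stabQ_pow s t hc hMk)
    refine allowed_down ?_ (orderOf_dvd_of_pow_eq_one h1)
    rcases hk with rfl | rfl
    · exact Or.inr (Or.inr (Or.inl (by rw [mul_comm])))
    · exact Or.inr (Or.inr (Or.inr (Or.inl (by rw [mul_comm]))))
  obtain ⟨c, hc, hgJ⟩ := g.2
  rcases mul_self_eq_one_iff.1 hc with rfl | rfl
  · -- `g` commutes with the structure
    rw [one_smul] at hgJ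
    obtain ⟨a, b, hrel⟩ := exists_trace ht h2 (g := (g : Sp4)) hgJ
    rw [← hMdef, ← hJ] at hrel
    have ha : a = 0 := by
      have h1 : X * (M * M - (a • J + b • 1) * M + 1) = 0 := by rw [hrel, mul_zero]
      have h1' : (M * M - (a • J + b • 1) * M + 1) * X = 0 := by rw [hrel, zero_mul]
      have e1 : X * (M * M) = M * M * X := by rw [← mul_assoc, ← hfixX, mul_assoc M X, ← hfixX, ← mul_assoc]
      have e2 : X * (J * M) = -(J * M * X) := by
        rw [← mul_assoc, hXJ, neg_mul, mul_assoc, ← hfixX, ← mul_assoc]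
      have h3 : (2 * a) • (J * M * X) = 0 := by
        have h4 : X * (M * M - (a • J + b • 1) * M + 1) - (M * M - (a • J + b • 1) * M + 1) * X = 0 := by
          rw [h1, h1', sub_self]
        simp only [mul_add, mul_sub, add_mul, sub_mul, Matrix.smul_mul, Matrix.mul_smul, one_mul, mul_one, e1, e2,
          ← hfixX] at h4
        rw [← h4]; module
      rcases smul_eq_zero.1 h3 with e | e
      · exact (mul_eq_zero.1 e).resolve_left h2
      · exact absurd (hMcancel _ (hJinv _ (by rw [← mul_assoc]; exact e))) hX0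
    rw [ha, zero_smul, zero_add, Matrix.smul_mul, one_mul] at hrel
    have hR : aeval M (Polynomial.X ^ 2 - C b * Polynomial.X + 1) = 0 := by
      simpa [sq, Algebra.smul_def] using hrel
    obtain ⟨r, hr⟩ := IsAlgClosed.exists_root (quad (algebraMap F (AlgebraicClosure F) b)) (by
      rw [quad, show (Polynomial.X ^ 2 - C (algebraMap F (AlgebraicClosure F) b) * Polynomial.X + 1 :
        (AlgebraicClosure F)[X]).degree = 2 by compute_degree!]
      decide)
    simp [quad] at hr
    have hr0 : r ≠ 0 := by rintro rfl; simp at hr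
    by_cases hne : r * r = 1
    · obtain ⟨ε, hε, hrε⟩ := exists_sign (F := F) (r := r) (n := 1) (by rw [mul_one, sq, hne])
      rw [pow_one] at hrε
      have hb : b = ε + ε := (algebraMap F (AlgebraicClosure F)).injective (mul_right_cancel₀ hr0 (by
        rw [map_add, ← hrε]; linear_combination -hr - hne))
      have hN : (M - ε • 1) ^ 2 = 0 := by
        rw [sq, sub_mul, mul_sub, mul_sub, Matrix.mul_smul, Matrix.smul_mul, Matrix.smul_mul, mul_one, one_mul,
          one_mul, smul_smul, ← sq ε, hε, one_smul, ← hrel, hb]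
        module
      exact allowed_down (Or.inr (Or.inr (Or.inl (dvd_mul_right p _))))
        (orderOf_dvd_of_pow_eq_one (unip_pow_eq_one hp5 x hg.symm hε hN))
    · have main : ∀ k, k = Fintype.card F - 1 ∨ k = Fintype.card F + 1 → r ^ k = 1 →
          orderOf x ∈ allowed p (Fintype.card F) := by
        intro k hk hrk
        refine done_of k hk 1 (one_pow 2) (pow_eq_of_dvd hR (L := AlgebraicClosure F) ?_)
        have : (Polynomial.X ^ 2 - C b * Polynomial.X + 1).map (algebraMap F (AlgebraicClosure F)) =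
            quad (algebraMap F (AlgebraicClosure F) b) := by simp [quad]
        rw [this, map_one]
        exact quad_dvd hr (fun e => hne (by nth_rewrite 2 [e]; exact mul_inv_cancel₀ hr0)) hrk (one_pow 2)
      rcases frob_root (by rw [← map_pow, FiniteField.pow_card]) hr with h | h
      · exact main _ (Or.inl rfl) h
      · exact main _ (Or.inr rfl) h
  · -- `g` anticommutes
    rw [neg_one_smul] at hgJ
    have hsq : ((g : Sp4) * (g : Sp4) : Sp4).1 * J = J * ((g : Sp4) * (g : Sp4) : Sp4).1 := by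
      show M * M * J = J * (M * M)
      rw [mul_assoc, hgJ, mul_neg, ← mul_assoc, hgJ, neg_mul, neg_neg, mul_assoc]
    obtain ⟨a, b, hrel⟩ := exists_trace ht h2 (g := (g : Sp4) * (g : Sp4)) hsq
    rw [show (((g : Sp4) * (g : Sp4) : Sp4) : M4) = M * M from rfl, ← hJ] at hrel
    have ha : a = 0 := by
      have h1 : M * (M * M * (M * M) - (a • J + b • 1) * (M * M) + 1) -
          (M * M * (M * M) - (a • J + b • 1) * (M * M) + 1) * M = 0 := by
        rw [hrel, mul_zero, zero_mul, sub_zero]
      have h3 : (2 * a) • (J * (M * M * M)) = 0 := by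
        have e : M * (J * (M * M)) = -(J * (M * M * M)) := by
          rw [← mul_assoc, hgJ, neg_mul]; simp only [mul_assoc]; rfl
        simp only [mul_add, mul_sub, add_mul, sub_mul, Matrix.smul_mul, Matrix.mul_smul, one_mul, mul_one, e] at h1
        rw [← h1]; simp only [mul_assoc]; module
      rcases smul_eq_zero.1 h3 with e | e
      · exact (mul_eq_zero.1 e).resolve_left h2
      · refine absurd (hMcancel X (hMcancel _ (hMcancel _ ?_))) hX0
        rw [← mul_assoc, ← mul_assoc, hJinv _ e, zero_mul]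
    rw [ha, zero_smul, zero_add, Matrix.smul_mul, one_mul] at hrel
    have hR : aeval M (Polynomial.X ^ 4 - C b * Polynomial.X ^ 2 + 1) = 0 := by
      rw [show (Polynomial.X ^ 4 : F[X]) = Polynomial.X * Polynomial.X * (Polynomial.X * Polynomial.X) by ring,
        show (Polynomial.X ^ 2 : F[X]) = Polynomial.X * Polynomial.X by ring]
      simpa [Algebra.smul_def] using hrel
    obtain ⟨ρ, hρ⟩ := IsAlgClosed.exists_root (quad (algebraMap F (AlgebraicClosure F) b)) (by
      rw [quad, show (Polynomial.X ^ 2 - C (algebraMap F (AlgebraicClosure F) b) * Polynomial.X + 1 :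
        (AlgebraicClosure F)[X]).degree = 2 by compute_degree!]
      decide)
    simp [quad] at hρ
    have hρ0 : ρ ≠ 0 := by rintro rfl; simp at hρ
    by_cases hne : ρ * ρ = 1
    · obtain ⟨ε, hε, hrε⟩ := exists_sign (F := F) (r := ρ) (n := 1) (by rw [mul_one, sq, hne])
      rw [pow_one] at hrε
      have hb : b = ε + ε := (algebraMap F (AlgebraicClosure F)).injective (mul_right_cancel₀ hρ0 (by
        rw [map_add, ← hrε]; linear_combination -hρ - hne))
      have hN : ((((g * g : stab s t) : Sp4) : M4) - ε • 1) ^ 2 = 0 := by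
        show (M * M - ε • 1) ^ 2 = 0
        rw [sq, sub_mul, mul_sub, mul_sub, Matrix.mul_smul, Matrix.smul_mul, Matrix.smul_mul, mul_one, one_mul,
          one_mul, smul_smul, ← sq ε, hε, one_smul, ← hrel, hb]
        module
      have h1 : (x ^ 2) ^ p = 1 := unip_pow_eq_one hp5 (x ^ 2)
        (by rw [right_pow, ← hg, ← QuotientGroup.mk_pow, sq]) hε hN
      rw [← pow_mul] at h1
      refine allowed_down (Or.inr (Or.inr (Or.inl ?_))) (orderOf_dvd_of_pow_eq_one h1)
      rw [mul_comm 2 p]
      exact Nat.mul_dvd_mul_left p (even_iff_two_dvd.1 hevenA)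
    · rcases frob_root (u := algebraMap F (AlgebraicClosure F) b) (by rw [← map_pow, FiniteField.pow_card]) hρ with h | h
      · obtain ⟨c, hc, hck⟩ := quartic_pow h2 hR hρ hne hevenA h
        exact done_of _ (Or.inl rfl) c hc hck
      · obtain ⟨c, hc, hck⟩ := quartic_pow h2 hR hρ hne hevenB h
        exact done_of _ (Or.inr rfl) c hc hck

/-- The rotation anticommuting with the field structure. -/
def rot : M2 := !![0, -1; 1, 0]

/-- Covers in characteristic at least five. -/
theorem cover_large (hp5 : 5 ≤ p) (N : ℕ) :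
    ∃ (H : Type) (_ : Group H) (_ : Fintype H), N < Fintype.card H ∧
      Set.range (orderOf : H → ℕ) = Set.range (orderOf : Cfsg.PSp 2 F → ℕ) := by
  classical
  set q := Fintype.card F with hqdef
  have hq5 : 5 ≤ q := by
    obtain ⟨k, hk, e⟩ := card_pow (F := F) (p := p)
    rw [hqdef, e]; exact hp5.trans (Nat.le_self_pow (by omega) p)
  have hchar : ringChar F ≠ 2 := by rw [ringChar.eq F p]; omega
  have h2 : (2 : F) ≠ 0 := Ring.two_ne_zero hchar
  have hqodd := even_card h2
  obtain ⟨ν, hν⟩ := FiniteField.exists_nonsquare hchar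
  obtain ⟨s, t, hst⟩ : ∃ s t : F, s ^ 2 + t ^ 2 = ν := by
    obtain ⟨a, b, hab⟩ := FiniteField.exists_root_sum_quadratic (f := Polynomial.X ^ 2 - C ν)
      (g := Polynomial.X ^ 2) (by compute_degree!) (by compute_degree!) (FiniteField.odd_card_of_char_ne_two hchar)
    simp at hab
    exact ⟨a, b, by linear_combination hab⟩
  have ht : t ≠ 0 := fun e => hν ⟨s, by rw [← hst, e]; ring⟩
  have hν' : ¬ IsSquare (s ^ 2 + t ^ 2) := hst.symm ▸ hν
  have hdetA : (symA s t).det = -ν := by rw [symA, Matrix.det_fin_two_of, ← hst]; ring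
  haveI : Finite (stab s t) := Subtype.finite
  haveI : Finite (Multiplicative (anti s t)) :=
    inferInstanceAs (Finite (anti s t))
  have hW : ∀ a : Multiplicative (anti s t), a ^ p = 1 := fun w => Multiplicative.toAdd.injective (Subtype.ext (by
    rw [toAdd_pow, toAdd_one, AddSubgroup.coe_nsmul, ZeroMemClass.coe_zero]
    ext i j
    rw [Matrix.smul_apply, nsmul_eq_mul, CharP.cast_eq_zero, zero_mul, Matrix.zero_apply]))
  have hrA : rot (F := F) * symA s t = -(symA s t * rot) := by
    ext i j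
    fin_cases i <;> fin_cases j <;> simp [rot, symA, Matrix.mul_apply, Fin.sum_univ_two]
  have hr2 : rot (F := F) * rot = -1 := by
    ext i j
    fin_cases i <;> fin_cases j <;> simp [rot, Matrix.mul_apply, Fin.sum_univ_two]
  haveI : Nontrivial (Multiplicative (anti s t)) := by
    have hm : Matrix.fromBlocks rot 0 0 rot ∈ anti s t := by
      show _ * jay s t = -(jay s t * _)
      rw [jay, Matrix.fromBlocks_multiply, Matrix.fromBlocks_multiply, Matrix.fromBlocks_neg]
      simp [hrA]
    refine ⟨⟨Multiplicative.ofAdd ⟨_, hm⟩, 1, fun e => ?_⟩⟩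
    have h0 := congrArg (fun z => (Multiplicative.toAdd z).1 (Sum.inl 1) (Sum.inl 0)) e
    simp [rot] at h0
  refine conclude (φ := conjQ s t) (p := p) (by omega) hW (mult_mem_of_fixed ht hp5 hν') (fun M hM => ?_) N
  have torus : ∀ {N : ℕ}, N = q ^ 2 + 1 ∨ N = q ^ 2 - 1 →
      ∃ x : Multiplicative (anti s t) ⋊[conjQ s t] StabQ s t, N / Nat.gcd 2 (q - 1) ∣ orderOf x := by
    intro N hN
    obtain ⟨T, D, hirr, hS⟩ := exists_torus_data p hN (by omega)
    obtain ⟨a, ha⟩ : ∃ a : F, a ^ 2 * ν = (T / 2) ^ 2 - D := by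
      have hd : ¬ IsSquare ((T / 2) ^ 2 - D) := fun ⟨e, he⟩ => hirr (T / 2 + e) (by
        field_simp at he ⊢
        linear_combination (-4 : F) * 0 - he)
      obtain ⟨w, hw⟩ : IsSquare (((T / 2) ^ 2 - D) / ν) := by
        have h1 : quadraticChar F (((T / 2) ^ 2 - D) / ν) = 1 := by
          rw [div_eq_mul_inv, map_mul, quadraticChar_neg_one_iff_not_isSquare.2 hd,
            quadraticChar_neg_one_iff_not_isSquare.2 (fun h => hν (by simpa using h.inv))]
          norm_num
        refine (quadraticChar_one_iff_isSquare ?_).1 h1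
        intro e
        rw [e] at h1
        simp at h1
      exact ⟨w, by rw [sq, ← hw, div_mul_cancel₀]; rintro rfl; exact hν IsSquare.zero⟩
    set S : M2 := a • symA s t + (T / 2) • 1 with hSd
    have hST : Sᵀ = S := by rw [hSd, Matrix.transpose_add, Matrix.transpose_smul, Matrix.transpose_smul,
      symA_transpose, Matrix.transpose_one]
    have htr : S.trace = T := by
      simp [hSd, symA, Matrix.trace_fin_two]
      field_simp
    have hdet : S.det = D := by
      simp [hSd, symA, Matrix.det_fin_two]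
      rw [← hst] at ha
      linear_combination -ha
    have hg : (⟨mS S, mS_mem hST⟩ : Sp4) ∈ stab s t := ⟨1, one_mul 1, by
      rw [one_smul]
      show mS S * jay s t = jay s t * mS S
      rw [mS, jay, Matrix.fromBlocks_multiply, Matrix.fromBlocks_multiply]
      simp [hSd, mul_add, add_mul]⟩
    refine ⟨SemidirectProduct.inr (QuotientGroup.mk ⟨_, hg⟩), ?_⟩
    rw [orderOf_injective _ SemidirectProduct.inr_injective, ← orderOf_stabQ]
    exact (hS S hST htr hdet).symm.dvd
  have mixed : ∀ {k : ℕ}, k = q + 1 ∨ k = q - 1 →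
      ∃ x : Multiplicative (anti s t) ⋊[conjQ s t] StabQ s t, p * k ∣ orderOf x := by
    intro k hk
    obtain ⟨ρ, hρ⟩ := exists_primitive (F := F) p k
      (not_dvd_facts p (hk.elim (fun h => Or.inr (Or.inr (Or.inl h))) fun h => Or.inr (Or.inr (Or.inr h))))
    have hρ0 : ρ ≠ 0 := hρ.ne_zero (by omega)
    have hke : Even k := by
      rcases hk with rfl | rfl
      · exact hqodd.add_odd odd_one
      · exact Nat.Odd.sub_odd hqodd odd_one
    have hρne : ρ * ρ ≠ 1 := by
      rw [← sq]; intro e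
      have := Nat.le_of_dvd two_pos ((hρ.pow_eq_one_iff_dvd 2).1 e)
      omega
    obtain ⟨b, hb⟩ := mem_range_of_fixed (F := F) (x := ρ + ρ⁻¹) (by
      show FiniteField.frobeniusAlgHom F (AlgebraicClosure F) (ρ + ρ⁻¹) = ρ + ρ⁻¹
      rw [map_add, map_inv₀]
      show ρ ^ q + (ρ ^ q)⁻¹ = ρ + ρ⁻¹
      rcases hk with rfl | rfl
      · rw [show ρ ^ q = ρ⁻¹ from eq_inv_of_mul_eq_one_left (by rw [← pow_succ, hρ.pow_eq_one]), inv_inv, add_comm]
      · rw [show ρ ^ q = ρ by rw [show q = q - 1 + 1 by omega, pow_succ, hρ.pow_eq_one, one_mul]])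
    obtain ⟨β, α, hβα⟩ : ∃ β α : F, β ^ 2 - ν * α ^ 2 = 2 - b := by
      obtain ⟨u, v, huv⟩ := FiniteField.exists_root_sum_quadratic (f := Polynomial.X ^ 2)
        (g := C (-ν) * Polynomial.X ^ 2 - C (2 - b)) (by compute_degree!) (by
          have : ν ≠ 0 := by rintro rfl; exact hν IsSquare.zero
          compute_degree!) (FiniteField.odd_card_of_char_ne_two hchar)
      simp at huv
      exact ⟨u, v, by linear_combination huv⟩
    set A := symA s t with hA
    set S : M2 := α • A + β • 1 with hSd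
    set S' : M2 := (-α) • A + β • 1 with hS'd
    have hST : Sᵀ = S := by rw [hSd, Matrix.transpose_add, Matrix.transpose_smul, Matrix.transpose_smul,
      hA, symA_transpose, Matrix.transpose_one]
    have hrS : rot * S = S' * rot := by
      rw [hSd, hS'd, mul_add, add_mul, Matrix.mul_smul, Matrix.mul_smul, Matrix.smul_mul, Matrix.smul_mul, hrA,
        smul_neg, neg_smul, mul_one, one_mul]
    have hSS : S' * S = (2 - b) • 1 := by
      rw [hSd, hS'd, mul_add, add_mul, add_mul]
      simp only [Matrix.smul_mul, Matrix.mul_smul, mul_one, one_mul, hA, symA_sq, hst, smul_smul]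
      rw [← hβα]; module
    have hcS : S * S' = S' * S := by
      rw [hSd, hS'd]
      simp only [mul_add, add_mul, Matrix.smul_mul, Matrix.mul_smul, mul_one, one_mul, smul_smul]
      module
    have hrt : (rot (F := F))ᵀ = -rot := by
      ext i j
      fin_cases i <;> fin_cases j <;> simp [rot]
    have hmem : Matrix.fromBlocks rot 0 0 rot * mS S ∈ Matrix.symplecticGroup (Fin 2) F := by
      refine mul_mem ?_ (mS_mem hST)
      rw [SymplecticGroup.mem_iff, Matrix.J, Matrix.fromBlocks_transpose, Matrix.fromBlocks_multiply,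
        Matrix.fromBlocks_multiply]
      simp [hrt, hr2]
    set M : M4 := Matrix.fromBlocks rot 0 0 rot * mS S with hMd
    have hMb : M = Matrix.fromBlocks 0 (-rot) rot (rot * S) := by
      rw [hMd, mS, Matrix.fromBlocks_multiply]; simp
    have hMJ : M * jay s t = -(jay s t * M) := by
      rw [hMb, jay, Matrix.fromBlocks_multiply, Matrix.fromBlocks_multiply, Matrix.fromBlocks_neg]
      have hAS : A * S = S * A := by rw [hSd]; simp [mul_add, add_mul]
      simp only [Matrix.mul_zero, Matrix.zero_mul, add_zero, zero_add, ← hA, Matrix.neg_mul, Matrix.mul_neg,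
        neg_zero, Matrix.fromBlocks_inj]
      refine ⟨trivial, ?_, ?_, ?_⟩
      · rw [hrA]
      · exact hrA
      · rw [mul_assoc, ← hAS, ← mul_assoc, hrA, neg_mul, mul_assoc]
    have hM2 : M * M = Matrix.fromBlocks 1 S (-S') ((1 - (2 - b)) • 1) := by
      rw [hMb, Matrix.fromBlocks_multiply, Matrix.fromBlocks_inj]
      refine ⟨?_, ?_, ?_, ?_⟩
      · simp [hr2]
      · simp [← mul_assoc, hr2]
      · rw [hrS]; simp [mul_assoc, hr2]
      · have e : rot * S * (rot * S) = (-(2 - b)) • (1 : M2) := by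
          nth_rewrite 1 [hrS]
          rw [mul_assoc S', ← mul_assoc rot rot, hr2, neg_mul, one_mul, mul_neg, hSS, neg_smul]
        rw [e]
        simp [hr2, neg_smul, sub_smul]
        abel
    have hrel : M * M * (M * M) - b • (M * M) + 1 = 0 := by
      rw [hM2, Matrix.fromBlocks_multiply, Matrix.fromBlocks_smul, sub_eq_add_neg, Matrix.fromBlocks_neg,
        ← Matrix.fromBlocks_one, Matrix.fromBlocks_add, Matrix.fromBlocks_add, ← Matrix.fromBlocks_zero,
        Matrix.fromBlocks_inj]
      refine ⟨?_, ?_, ?_, ?_⟩ <;>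
        simp only [mul_one, one_mul, mul_neg, neg_mul, Matrix.smul_mul, Matrix.mul_smul, hcS, hSS, smul_smul] <;>
        module
    have hR : aeval M (Polynomial.X ^ 4 - C b * Polynomial.X ^ 2 + 1) = 0 := by
      rw [show (Polynomial.X ^ 4 : F[X]) = Polynomial.X * Polynomial.X * (Polynomial.X * Polynomial.X) by ring,
        show (Polynomial.X ^ 2 : F[X]) = Polynomial.X * Polynomial.X by ring]
      simpa [Algebra.smul_def] using hrel
    have hρb : ρ ^ 2 - algebraMap F (AlgebraicClosure F) b * ρ + 1 = 0 := by rw [hb]; field_simp; ring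
    set g : stab s t := ⟨⟨M, hmem⟩, -1, by ring, by rw [neg_one_smul]; exact hMJ⟩ with hgd
    set y : StabQ s t := QuotientGroup.mk g with hy
    obtain ⟨c, hc, hMk⟩ := quartic_pow h2 hR hρb hρne hke hρ.pow_eq_one
    have hyk : orderOf y ∣ k := orderOf_dvd_of_pow_eq_one (stabQ_pow s t hc hMk)
    have hky : k ∣ orderOf y := by
      set n := orderOf y
      obtain ⟨d, hd, hMn⟩ := (toPSp_pow_iff s t g n).1 (by
        have h := congrArg (QuotientGroup.kerLift (toPSp s t)) (pow_orderOf_eq_one y)
        rw [map_pow, map_one] at h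
        exact h)
      have hMn' : M ^ n = d • 1 := hMn
      have hd0 : d ≠ 0 := by rintro rfl; simp at hd
      obtain ⟨j, hj⟩ : Even n := by
        by_contra hodd
        rw [Nat.not_even_iff_odd] at hodd
        obtain ⟨j, hj⟩ := hodd
        have hanti : ∀ i : ℕ, M ^ i * jay s t = ((-1 : F) ^ i) • (jay s t * M ^ i) := by
          intro i
          induction i with
          | zero => simp
          | succ i ih =>
            rw [pow_succ, mul_assoc, hMJ, mul_neg, ← mul_assoc, ih, Matrix.smul_mul, pow_succ (-1 : F), mul_smul,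
              neg_one_smul, mul_assoc, smul_neg]
        have h1 := hanti n
        rw [hMn', hj, pow_succ (-1 : F), pow_mul, neg_one_sq, one_pow, one_mul, Matrix.smul_mul, one_mul,
          Matrix.mul_smul, mul_one, smul_smul] at h1
        have h3 : (d + d) • jay s t = 0 := by rw [add_smul]; nth_rewrite 1 [h1]; rw [neg_one_mul, neg_smul, neg_add_cancel]
        rcases smul_eq_zero.1 h3 with e | e
        · exact hd0 ((mul_eq_zero.1 (show (2 : F) * d = 0 by linear_combination e)).resolve_left h2)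
        · have h4 := jay_sq s t
          rw [e, mul_zero] at h4
          rcases smul_eq_zero.1 h4.symm with e' | e'
          · exact hν' (by rw [e']; exact IsSquare.zero)
          · exact one_ne_zero e'
      rw [show n = 2 * j by omega, pow_mul, sq] at hMn'
      have hρj : ρ ^ j = algebraMap F (AlgebraicClosure F) d := by
        by_contra hne
        have hd' : (algebraMap F (AlgebraicClosure F) d) ^ 2 = 1 := by rw [← map_pow, hd, map_one]
        have hcop : IsCoprime (Polynomial.X ^ 2 - C b * Polynomial.X + 1 : F[X]) (Polynomial.X ^ j - C d) := by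
          rw [← Polynomial.isCoprime_map (algebraMap F (AlgebraicClosure F))]
          simp only [Polynomial.map_add, Polynomial.map_sub, Polynomial.map_mul, Polynomial.map_pow, map_X, map_C,
            Polynomial.map_one]
          rw [show (Polynomial.X ^ 2 - C (algebraMap F (AlgebraicClosure F) b) * Polynomial.X + 1 :
            (AlgebraicClosure F)[X]) = quad (algebraMap F (AlgebraicClosure F) b) from rfl, quad_eq hρb]
          refine IsCoprime.mul_left ?_ ?_ <;>
            refine (prime_X_sub_C _).coprime_iff_not_dvd.2 fun h => hne ?_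
          · simpa [dvd_iff_isRoot, sub_eq_zero] using h
          · have h' : ρ⁻¹ ^ j = algebraMap F (AlgebraicClosure F) d := by
              simpa [dvd_iff_isRoot, sub_eq_zero] using h
            simpa using inv_pow_eq_self h' hd'
        obtain ⟨U, V, hUV⟩ := hcop
        have h1 := congrArg (aeval (M * M)) hUV
        have e1 : aeval (M * M) (Polynomial.X ^ 2 - C b * Polynomial.X + 1 : F[X]) = 0 := by
          simpa [sq, Algebra.smul_def] using hrel
        have e2 : aeval (M * M) (Polynomial.X ^ j - C d : F[X]) = 0 := by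
          simp [hMn', Algebra.algebraMap_eq_smul_one]
        rw [map_add, map_mul, map_mul, e1, e2, mul_zero, mul_zero, add_zero, map_one] at h1
        exact zero_ne_one h1
      rw [← hρ.pow_eq_one_iff_dvd, show n = j * 2 by omega, pow_mul, hρj, ← map_pow, hd, map_one]
    set Mi : M4 := (((g⁻¹ : stab s t) : Sp4) : M4)
    have hMi : Mi * M = 1 := by
      show (((g⁻¹ : stab s t) : Sp4) : M4) * ((g : Sp4) : M4) = 1
      rw [← Submonoid.coe_mul, ← Subgroup.coe_mul, inv_mul_cancel]; rfl
    have hiM : M * Mi = 1 := by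
      show ((g : Sp4) : M4) * (((g⁻¹ : stab s t) : Sp4) : M4) = 1
      rw [← Submonoid.coe_mul, ← Subgroup.coe_mul, mul_inv_cancel]; rfl
    have hMiJ : Mi * jay s t = -(jay s t * Mi) := by
      calc Mi * jay s t = Mi * (jay s t * M) * Mi := by rw [mul_assoc, mul_assoc, hiM, mul_one]
        _ = Mi * (-(M * jay s t)) * Mi := by rw [hMJ, neg_neg]
        _ = -(jay s t * Mi) := by rw [mul_neg, neg_mul, ← mul_assoc Mi, hMi, one_mul]
    have hX : M + Mi ∈ anti s t := by
      show (M + Mi) * jay s t = -(jay s t * (M + Mi))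
      rw [add_mul, mul_add, hMJ, hMiJ, neg_add]
    refine (exists_orderOf_mul (φ := conjQ s t) hW (g := y) (w := Multiplicative.ofAdd ⟨M + Mi, hX⟩) ?_ ?_ ?_).elim
      fun x hx => ⟨x, hx ▸ Nat.mul_dvd_mul_left p hky⟩
    · intro e
      have h0 : M + Mi = 0 := congrArg (fun z => (Multiplicative.toAdd z).1) e
      have hMM : M * M = -1 := by
        have := congrArg (M * ·) h0
        simp only [mul_add, hiM, mul_zero] at this
        exact eq_neg_of_add_eq_zero_left this
      rw [hMM] at hrel
      have h1 : (2 + b) • (1 : M4) = 0 := by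
        rw [neg_mul_neg, one_mul, smul_neg] at hrel
        rw [← hrel]; module
      have hb2 : b = -2 := by
        rcases smul_eq_zero.1 h1 with e' | e'
        · linear_combination e'
        · exact absurd e' one_ne_zero
      apply hρne
      rw [hb2, map_neg, map_ofNat] at hρb
      have : (ρ + 1) ^ 2 = 0 := by linear_combination hρb
      rw [show ρ = -1 from eq_neg_of_add_eq_zero_left (pow_eq_zero_iff two_ne_zero |>.1 this)]
      ring
    · refine Multiplicative.toAdd.injective (Subtype.ext ?_)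
      show M * (M + Mi) * Mi = M + Mi
      rw [mul_add, hiM, add_mul, one_mul, mul_assoc, hiM, mul_one]
    · exact fun h => not_dvd_facts p (hk.elim (fun h => Or.inr (Or.inr (Or.inl h))) fun h => Or.inr (Or.inr (Or.inr h)))
        (h.trans hyk)
  rcases hM with rfl | rfl | rfl | rfl | ⟨h0, -⟩ | ⟨h0, -⟩
  · exact torus (Or.inl rfl)
  · exact torus (Or.inr rfl)
  · exact mixed (Or.inr rfl)
  · exact mixed (Or.inl rfl)
  · omega
  · omega

end Cfsg.Lib.Spec.PSpFour
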