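import Cfsg.Agent.Lib.Spec.PSpFour.Cover

/-!
# `PSL(2, q²)` inside the covers
-/

set_option autoImplicit false
set_option linter.unusedSectionVars false
set_option linter.unusedSimpArgs false
set_option linter.style.haveILetI false

namespace Cfsg.Lib.Spec.PSpFour

open Matrix

universe v

variable {K : Type} [Field K] [Fintype K] {p : ℕ} [hp : Fact p.Prime] [CharP K p]

local notation "SL2" => Matrix.SpecialLinearGroup (Fin 2) K
local notation "PSL2" => Matrix.ProjectiveSpecialLinearGroup (Fin 2) K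

theorem center_cases {g : SL2} (hg : g ∈ Subgroup.center SL2) : g = 1 ∨ g = -1 := by
  obtain ⟨r, hr, hr'⟩ := Matrix.SpecialLinearGroup.mem_center_iff.1 hg
  rw [Fintype.card_fin] at hr
  rcases sq_eq_one_iff.1 hr with rfl | rfl
  · left
    apply Subtype.ext
    rw [← hr', map_one, Matrix.SpecialLinearGroup.coe_one]
  · right
    apply Subtype.ext
    rw [← hr', map_neg, map_one, Matrix.SpecialLinearGroup.coe_neg, Matrix.SpecialLinearGroup.coe_one]

/-- A representation trivial on `-1` lives on the projective group. -/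
noncomputable def liftPSL {M : Type v} [Monoid M] (f : SL2 →* M) (hf : f (-1) = 1) : PSL2 →* M :=
  QuotientGroup.lift (Subgroup.center SL2) f (by
    intro g hg
    rw [MonoidHom.mem_ker]
    rcases center_cases hg with rfl | rfl
    · exact map_one f
    · exact hf)

theorem liftPSL_mk {M : Type v} [Monoid M] (f : SL2 →* M) (hf : f (-1) = 1) (g : SL2) :
    liftPSL f hf (QuotientGroup.mk g) = f g := rfl

theorem exists_eigen (g : SL2) :
    ∃ r : AlgebraicClosure K, r ^ 2 = algebraMap K (AlgebraicClosure K) (trc g) * r - 1 ∧ r ≠ 0 := by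
  obtain ⟨r, hr⟩ := IsAlgClosed.exists_root (quad (algebraMap K (AlgebraicClosure K) (trc g))) (by
    rw [quad, show (Polynomial.X ^ 2 - Polynomial.C (algebraMap K (AlgebraicClosure K) (trc g)) * Polynomial.X + 1 :
      Polynomial (AlgebraicClosure K)).degree = 2 by compute_degree!]
    decide)
  simp [quad] at hr
  refine ⟨r, by linear_combination hr, ?_⟩
  rintro rfl
  simp at hr

theorem mk_pow_of_root {L : Type} [Field L] [Algebra K L] {g : SL2} {r : L}
    (hr : r ^ 2 = algebraMap K L (trc g) * r - 1) (hne : r * r ≠ 1) {n : ℕ} (hn : (r ^ n) ^ 2 = 1) :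
    (QuotientGroup.mk g : PSL2) ^ n = 1 :=
  (Cfsg.Lib.Spec.mk_pow_eq_one_iff g n).2 (Cfsg.Lib.Spec.pow_scalar_of_root g hr hne hn)

theorem mk_pow_char {L : Type} [Field L] [Algebra K L] {g : SL2} {r : L}
    (hr : r ^ 2 = algebraMap K L (trc g) * r - 1) (h1 : r * r = 1) : (QuotientGroup.mk g : PSL2) ^ p = 1 := by
  have hr0 : r ≠ 0 := by rintro rfl; simp at h1
  obtain ⟨c, hc, hrc⟩ : ∃ c : K, c ^ 2 = 1 ∧ r = algebraMap K L c := by
    rcases mul_self_eq_one_iff.1 h1 with h | h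
    · exact ⟨1, one_pow 2, by rw [h, map_one]⟩
    · exact ⟨-1, by ring, by rw [h, map_neg, map_one]⟩
  have ht : trc g = c + c := by
    refine (algebraMap K L).injective (mul_right_cancel₀ hr0 ?_)
    rw [map_add, ← hrc]
    linear_combination -hr - h1
  have hN : ((g : Matrix (Fin 2) (Fin 2) K) - c • 1) ^ 2 = 0 := by
    rw [sq, Matrix.sub_mul, Matrix.mul_sub, Matrix.mul_sub, Cfsg.Lib.Spec.cayley_hamilton, ht,
      Matrix.mul_smul, Matrix.smul_mul, Matrix.smul_mul, Matrix.mul_one, Matrix.one_mul, Matrix.one_mul,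
      smul_smul, ← sq c, hc, one_smul, add_smul]
    abel
  refine (Cfsg.Lib.Spec.mk_pow_eq_one_iff g p).2 ⟨c ^ p, by rw [← pow_mul, mul_comm, pow_mul, hc, one_pow], ?_⟩
  have h2 := sub_pow_char_of_commute (R := Matrix (Fin 2) (Fin 2) K) (p := p)
    (x := (g : Matrix (Fin 2) (Fin 2) K)) (y := c • 1) (Commute.smul_right (Commute.one_right _) c)
  rw [pow_eq_zero_of_le hp.out.two_le hN, smul_pow, one_pow, eq_comm, sub_eq_zero] at h2
  rw [Matrix.SpecialLinearGroup.coe_pow, h2]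

variable {k : ℕ}

theorem frob_fix (hK : Fintype.card K = (p ^ k) ^ 2) (x : K) : (x ^ p ^ k) ^ p ^ k = x := by
  rw [← pow_mul, ← sq, ← hK, FiniteField.pow_card]

/-- Projective exponents when the trace is fixed by the involutory field automorphism up to sign. -/
theorem exists_exponent (g : SL2) (ht : trc g ^ p ^ k = trc g ∨ trc g ^ p ^ k = -trc g) :
    ∃ n : ℕ, (QuotientGroup.mk g : PSL2) ^ n = 1 ∧ (n = p ∨ n = p ^ k - 1 ∨ n = p ^ k + 1) := by
  obtain ⟨r, hr, hr0⟩ := exists_eigen g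
  haveI : CharP (AlgebraicClosure K) p := charP_of_injective_algebraMap (algebraMap K (AlgebraicClosure K)).injective p
  by_cases hne : r * r = 1
  · exact ⟨p, mk_pow_char hr hne, Or.inl rfl⟩
  set t := algebraMap K (AlgebraicClosure K) (trc g) with htdef
  have h1 : (r ^ p ^ k) ^ 2 = t ^ p ^ k * r ^ p ^ k - 1 := by
    rw [← pow_mul, mul_comm (p ^ k) 2, pow_mul, hr, sub_pow_char_pow, mul_pow, one_pow]
  have hu : r ^ 2 - t * r + 1 = 0 := by linear_combination hr
  have hcases : ∃ e : AlgebraicClosure K, e * e = 1 ∧ (r ^ p ^ k = e * r ∨ r ^ p ^ k = e * r⁻¹) := by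
    rcases ht with h | h
    · rw [htdef, ← map_pow, h, ← htdef] at h1
      refine ⟨1, one_mul 1, ?_⟩
      rw [one_mul, one_mul]
      exact root_eq hu (by linear_combination h1)
    · rw [htdef, ← map_pow, h, map_neg, ← htdef] at h1
      refine ⟨-1, by ring, ?_⟩
      rcases root_eq hu (y := -(r ^ p ^ k)) (by linear_combination h1) with h2 | h2
      · left; linear_combination -h2
      · right; linear_combination -h2
  obtain ⟨e, he, h | h⟩ := hcases
  · refine ⟨p ^ k - 1, mk_pow_of_root hr hne ?_, Or.inr (Or.inl rfl)⟩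
    have h2 : r ^ (p ^ k - 1) = e := by
      refine mul_right_cancel₀ hr0 ?_
      rw [← pow_succ, Nat.sub_add_cancel (Nat.one_le_pow _ _ hp.out.pos), h]
    rw [h2, sq, he]
  · refine ⟨p ^ k + 1, mk_pow_of_root hr hne ?_, Or.inr (Or.inr rfl)⟩
    have h2 : r ^ (p ^ k + 1) = e := by rw [pow_succ, h, mul_assoc, inv_mul_cancel₀ hr0, mul_one]
    rw [h2, sq, he]

theorem gcd_sq (q : ℕ) (hq : 1 ≤ q) : Nat.gcd 2 (q ^ 2 - 1) = Nat.gcd 2 (q - 1) := by
  rcases Nat.even_or_odd q with h | h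
  · obtain ⟨j, rfl⟩ := h
    have h1 : (j + j) ^ 2 = 4 * (j * j) := by ring
    have h2 : 1 ≤ j * j := Nat.one_le_iff_ne_zero.2 (mul_ne_zero (by omega) (by omega))
    rw [Nat.gcd_rec, Nat.gcd_rec 2 (j + j - 1), show ((j + j) ^ 2 - 1) % 2 = 1 by omega,
      show (j + j - 1) % 2 = 1 by omega]
  · obtain ⟨j, rfl⟩ := h
    have h1 : (2 * j + 1) ^ 2 = 2 * (2 * j * j + 2 * j) + 1 := by ring
    rw [Nat.gcd_rec, Nat.gcd_rec 2 (2 * j + 1 - 1), show ((2 * j + 1) ^ 2 - 1) % 2 = 0 by omega,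
      show (2 * j + 1 - 1) % 2 = 0 by omega]

theorem psl_allowed (hK : Fintype.card K = (p ^ k) ^ 2) (y : PSL2) : orderOf y ∈ allowed p (p ^ k) := by
  have h := Cfsg.Lib.Spec.psl_two_exponents p y
  rw [hK, gcd_sq _ (Nat.one_le_pow _ _ hp.out.pos)] at h
  rcases h with h | h | h
  · exact Or.inr (Or.inr (Or.inl ((orderOf_dvd_of_pow_eq_one h).trans (dvd_mul_right _ _))))
  · exact Or.inr (Or.inl (orderOf_dvd_of_pow_eq_one h))
  · exact Or.inl (orderOf_dvd_of_pow_eq_one h)

variable {W : Type} [CommGroup W]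

theorem upper_of {φ : PSL2 →* MulAut W} (hK : Fintype.card K = (p ^ k) ^ 2) (hW : ∀ a : W, a ^ p = 1)
    (hfix : ∀ g : SL2, ∀ w : W, w ≠ 1 → φ (QuotientGroup.mk g) w = w →
      ∃ n : ℕ, (QuotientGroup.mk g : PSL2) ^ n = 1 ∧ n * p ∈ allowed p (p ^ k))
    (x : W ⋊[φ] PSL2) : orderOf x ∈ allowed p (p ^ k) := by
  obtain ⟨g, hg⟩ := QuotientGroup.mk_surjective x.right
  by_cases h : ∃ w : W, w ≠ 1 ∧ φ x.right w = w
  · obtain ⟨w, hw, hwf⟩ := h
    obtain ⟨n, hn, hmem⟩ := hfix g w hw (hg ▸ hwf)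
    exact allowed_down hmem (orderOf_dvd_of_pow_eq_one (pow_mul_eq_one hW x (by rw [← hg, hn])))
  · push Not at h
    exact allowed_down (psl_allowed hK x.right) (orderOf_dvd_of_pow_eq_one
      (pow_eq_one_of_no_fixed x (pow_orderOf_eq_one _) fun w hw => by_contra fun hne => h w hne hw))

theorem lower_torus {φ : PSL2 →* MulAut W} (hK : Fintype.card K = (p ^ k) ^ 2) (hq : 3 ≤ p ^ k) {N : ℕ}
    (hN : N = ((p ^ k) ^ 2 + 1) / Nat.gcd 2 (p ^ k - 1) ∨ N = ((p ^ k) ^ 2 - 1) / Nat.gcd 2 (p ^ k - 1)) :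
    ∃ x : W ⋊[φ] PSL2, N ∣ orderOf x := by
  have h4 : 4 ≤ Fintype.card K := by rw [hK, sq]; exact le_trans (by norm_num) (Nat.mul_le_mul hq hq)
  obtain ⟨y, hy⟩ : N ∈ Set.range (orderOf : PSL2 → ℕ) := by
    rw [Cfsg.Lib.Spec.psl_two_spectrum p h4, Set.mem_setOf_eq, hK, gcd_sq _ (by omega)]
    rcases hN with rfl | rfl
    · exact Or.inr (Or.inr dvd_rfl)
    · exact Or.inr (Or.inl dvd_rfl)
  exact ⟨SemidirectProduct.inr y, by rw [orderOf_injective _ SemidirectProduct.inr_injective, hy]⟩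

/-- The companion matrix of trace `t`. -/
def companion (t : K) : SL2 := ⟨!![t, -1; 1, 0], by simp [Matrix.det_fin_two]⟩

theorem companion_pow_iff {L : Type} [Field L] [Algebra K L] {t : K} {r : L}
    (hr : r ^ 2 = algebraMap K L t * r - 1) (hne : r * r ≠ 1) (n : ℕ) :
    (QuotientGroup.mk (companion t) : PSL2) ^ n = 1 ↔ (r ^ n) ^ 2 = 1 := by
  have htr : trc (companion t) = t := by simp [trc, companion]
  refine ⟨?_, fun h => mk_pow_of_root (by rw [htr]; exact hr) hne h⟩
  rw [Cfsg.Lib.Spec.mk_pow_eq_one_iff]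
  rintro ⟨c, hc, hcn⟩
  rcases n with _ | n
  · simp
  · have hr' : r ^ 2 = algebraMap K L (trc (companion t)) * r - 1 := by rw [htr]; exact hr
    have h1 := Cfsg.Lib.Spec.root_pow_eq hr' n
    rw [Matrix.SpecialLinearGroup.coe_pow, Cfsg.Lib.Spec.pow_succ_eq] at hcn
    have hz : chCoef (trc (companion t)) (n + 1) = 0 := by
      simpa [companion] using congrFun (congrFun hcn 1) 0
    have hy : -chCoef (trc (companion t)) n = c := by
      rw [hz] at hcn
      simpa using congrFun (congrFun hcn 0) 0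
    rw [h1, hz, map_zero, zero_mul, zero_sub, ← map_neg, hy, ← map_pow, hc, map_one]

/-- A fixed vector over an extension gives one over the ground field. -/
theorem exists_fixed_descent {L : Type} [Field L] [Algebra K L] {n m : Type} [Fintype n] [Fintype m]
    {A : Matrix n n K} {B : Matrix m m K} {X : Matrix n m L} (hX : X ≠ 0)
    (h : A.map (algebraMap K L) * X = X * B.map (algebraMap K L)) :
    ∃ Y : Matrix n m K, Y ≠ 0 ∧ A * Y = Y * B := by
  obtain ⟨i, j, hij⟩ : ∃ i j, X i j ≠ 0 := by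
    by_contra h0
    push Not at h0
    exact hX (Matrix.ext h0)
  obtain ⟨l, hl⟩ : ∃ l : L →ₗ[K] K, l (X i j) ≠ 0 := by
    obtain ⟨f, hf⟩ := LinearMap.exists_extend (p := K ∙ X i j)
      (LinearEquiv.toSpanNonzeroSingleton K L (X i j) hij).symm.toLinearMap
    refine ⟨f, ?_⟩
    have h1 := LinearMap.congr_fun hf ⟨X i j, Submodule.mem_span_singleton_self _⟩
    simp at h1
    rw [h1]
    exact fun h0 => hij (congrArg Subtype.val ((LinearEquiv.map_eq_zero_iff _).1 h0))
  refine ⟨X.map l, fun h0 => hl ?_, ?_⟩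
  · simpa using congrFun (congrFun h0 i) j
  ext a b
  have h2 := congrArg l (congrFun (congrFun h a) b)
  simp only [Matrix.mul_apply, Matrix.map_apply, map_sum] at h2 ⊢
  simp only [← Algebra.smul_def, map_smul, mul_comm (X a _) (algebraMap K L _), smul_eq_mul] at h2
  rw [h2]
  exact Finset.sum_congr rfl fun c _ => mul_comm _ _

end Cfsg.Lib.Spec.PSpFour
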