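import Cfsg.Agent.Lib.Spec.PSpFour.Linear
import Mathlib.LinearAlgebra.Matrix.Kronecker
import Mathlib.FieldTheory.Finite.GaloisField
import Mathlib.Algebra.CharP.Frobenius

/-!
# Covers for `q` even and for `q` a power of nine
-/

set_option autoImplicit false
set_option linter.unusedSectionVars false
set_option linter.unusedSimpArgs false
set_option linter.style.haveILetI false

namespace Cfsg.Lib.Spec.PSpFour

open Matrix Polynomial
open scoped Kronecker

universe u

variable {K : Type} [Field K] [Fintype K] {p : ℕ} [hp : Fact p.Prime] [CharP K p]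

local notation "SL2" => Matrix.SpecialLinearGroup (Fin 2) K
local notation "PSL2" => Matrix.ProjectiveSpecialLinearGroup (Fin 2) K
local notation "M2" => Matrix (Fin 2) (Fin 2) K
local notation "Mkk" => Matrix (Fin 2 × Fin 2) (Fin 2 × Fin 2) K

theorem companion_coe (t : K) : (companion t : M2) = !![t, -1; 1, 0] := rfl

theorem map_companion (f : K →+* K) (t : K) :
    Matrix.SpecialLinearGroup.map f (companion t) = companion (f t) := by
  apply Subtype.ext
  ext i j
  fin_cases i <;> fin_cases j <;> simp [companion_coe, Matrix.SpecialLinearGroup.map_apply_coe, RingHom.mapMatrix_apply]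

theorem trc_map (f : K →+* K) (g : SL2) : trc (Matrix.SpecialLinearGroup.map f g) = f (trc g) := by
  simp [trc]

/-- The transvection `[1, c; 0, 1]`. -/
def unip (c : K) : SL2 := ⟨!![1, c; 0, 1], by simp [Matrix.det_fin_two]⟩

theorem unip_coe (c : K) : (unip c : M2) = !![1, c; 0, 1] := rfl

theorem unip_mul (a b : K) : unip a * unip b = unip (a + b) := by
  apply Subtype.ext
  ext i j
  fin_cases i <;> fin_cases j <;>
    simp [Matrix.SpecialLinearGroup.coe_mul, unip_coe, Matrix.mul_apply, Fin.sum_univ_two, add_comm]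

theorem unip_zero : unip (0 : K) = 1 := by
  apply Subtype.ext
  ext i j
  fin_cases i <;> fin_cases j <;> simp [unip_coe]

theorem unip_inv (a : K) : (unip a)⁻¹ = unip (-a) :=
  inv_eq_of_mul_eq_one_right (by rw [unip_mul, add_neg_cancel, unip_zero])

theorem map_unip (f : K →+* K) (a : K) : Matrix.SpecialLinearGroup.map f (unip a) = unip (f a) := by
  apply Subtype.ext
  ext i j
  fin_cases i <;> fin_cases j <;>
    simp [Matrix.SpecialLinearGroup.map_apply_coe, RingHom.mapMatrix_apply, unip_coe]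

theorem seventeen_ne {R : Type} [Field R] (h3 : (3 : R) = 0) (h : (1 : R) + (1 + 1) * (1 + 1) ^ 3 = 0) : False :=
  one_ne_zero (α := R) (by linear_combination -h + 6 * h3)

theorem CH (g : SL2) : (g : M2) ^ 2 = trc g • (g : M2) - 1 := by
  rw [sq, Cfsg.Lib.Spec.cayley_hamilton]

/-! ### Characteristic two -/

section Two

variable [CharP K 2]

theorem neg_one_eq_one : (-1 : SL2) = 1 := by
  apply Subtype.ext
  rw [Matrix.SpecialLinearGroup.coe_neg, Matrix.SpecialLinearGroup.coe_one]
  ext i j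
  rw [Matrix.neg_apply, CharTwo.neg_eq]

noncomputable def repNat : PSL2 →* M2 :=
  liftPSL { toFun := fun g => (g : M2), map_one' := rfl, map_mul' := fun _ _ => rfl }
    (by rw [neg_one_eq_one]; rfl)

noncomputable def repTwist (f : K →+* K) : PSL2 →* M2 :=
  liftPSL
    { toFun := fun g => ((Matrix.SpecialLinearGroup.map f g : SL2) : M2)
      map_one' := by rw [map_one]; rfl
      map_mul' := fun a b => by rw [map_mul]; rfl }
    (by rw [neg_one_eq_one]; exact congrArg Subtype.val (map_one (Matrix.SpecialLinearGroup.map f)))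

theorem repNat_mk (g : SL2) : repNat (QuotientGroup.mk g) = (g : M2) := rfl

theorem repTwist_mk (f : K →+* K) (g : SL2) :
    repTwist f (QuotientGroup.mk g) = ((Matrix.SpecialLinearGroup.map f g : SL2) : M2) := rfl

theorem trace_fixed (f : K →+* K) (g : SL2) {X : M2} (hX : X ≠ 0)
    (h : (g : M2) * X = X * ((Matrix.SpecialLinearGroup.map f g : SL2) : M2)) : f (trc g) = trc g := by
  set h' : M2 := ((Matrix.SpecialLinearGroup.map f g : SL2) : M2)
  by_contra hne
  refine hX ?_
  have h1 : (g : M2) ^ 2 * X = X * h' ^ 2 := by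
    rw [sq, sq, Matrix.mul_assoc, h, ← Matrix.mul_assoc, h, Matrix.mul_assoc]
  rw [CH, show h' ^ 2 = trc (Matrix.SpecialLinearGroup.map f g) • h' - 1 from CH _, trc_map, Matrix.sub_mul,
    Matrix.mul_sub, Matrix.one_mul, Matrix.mul_one, Matrix.smul_mul, Matrix.mul_smul, h, sub_left_inj,
    ← sub_eq_zero, ← sub_smul, smul_eq_zero] at h1
  have h2 : X * h' = 0 := h1.resolve_left (sub_ne_zero.2 (Ne.symm hne))
  have h3 : h' * ((Matrix.SpecialLinearGroup.map f g⁻¹ : SL2) : M2) = 1 := by
    rw [← Matrix.SpecialLinearGroup.coe_mul, ← map_mul, mul_inv_cancel, map_one, Matrix.SpecialLinearGroup.coe_one]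
  rw [← Matrix.mul_one X, ← h3, ← Matrix.mul_assoc, h2, Matrix.zero_mul]

end Two

/-- Covers in characteristic two. -/
theorem cover_two {F : Type u} [Field F] [Fintype F] [CharP F 2] (hq : 3 ≤ Fintype.card F) (N : ℕ) :
    ∃ (H : Type) (_ : Group H) (_ : Fintype H), N < Fintype.card H ∧
      Set.range (orderOf : H → ℕ) = Set.range (orderOf : Cfsg.PSp 2 F → ℕ) := by
  classical
  obtain ⟨k, hk1, hk⟩ := card_pow (F := F) (p := 2)
  let K := GaloisField 2 (2 * k)
  letI : Fintype K := Fintype.ofFinite K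
  have hK : Fintype.card K = (2 ^ k) ^ 2 := by
    rw [← Nat.card_eq_fintype_card, GaloisField.card 2 (2 * k) (by omega), ← pow_mul, mul_comm]
  set σ : K →+* K := iterateFrobenius K 2 k
  have hσ : ∀ x, σ x = x ^ 2 ^ k := fun x => iterateFrobenius_def 2 k x
  let φ := sandwich (repNat (K := K)) (repTwist σ)
  have hW : ∀ a : Multiplicative (Matrix (Fin 2) (Fin 2) K), a ^ 2 = 1 := fun a => sandwich_exponent 2 a
  haveI : Finite (Matrix.SpecialLinearGroup (Fin 2) K) := Subtype.finite
  have hfour : ∀ {n : ℕ}, n = 2 ∨ n = 2 ^ k - 1 ∨ n = 2 ^ k + 1 → n * 2 ∈ allowed 2 (2 ^ k) := by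
    rintro n (rfl | rfl | rfl)
    · exact Or.inr (Or.inr (Or.inr (Or.inr (Or.inl ⟨rfl, by norm_num⟩))))
    · exact Or.inr (Or.inr (Or.inl (by rw [mul_comm])))
    · exact Or.inr (Or.inr (Or.inr (Or.inl (by rw [mul_comm]))))
  refine conclude (φ := φ) (p := 2) hq hW (fun x => ?_) (fun M hM => ?_) N
  · rw [hk]
    refine upper_of hK hW (fun g w hw hwf => ?_) x
    have h := (sandwich_fixed_iff _ _ _ _).1 hwf
    rw [repNat_mk, repTwist_mk] at h
    have ht := trace_fixed σ g (X := w.toAdd) (fun e => hw (Multiplicative.toAdd.injective e)) h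
    rw [hσ] at ht
    obtain ⟨n, hn, hcases⟩ := exists_exponent (p := 2) (k := k) g (Or.inl ht)
    exact ⟨n, hn, hfour hcases⟩
  · rw [hk] at hM hq
    have mixed : ∀ {j : ℕ}, j = 2 ^ k + 1 ∨ j = 2 ^ k - 1 →
        ∃ x : Multiplicative (Matrix (Fin 2) (Fin 2) K) ⋊[φ] Matrix.ProjectiveSpecialLinearGroup (Fin 2) K,
          2 * j ∣ orderOf x := by
      intro j hj
      have hje : Odd j := by
        have : 2 ∣ 2 ^ k := dvd_pow_self 2 (by omega)
        rcases hj with rfl | rfl <;> (rw [Nat.odd_iff]; omega)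
      obtain ⟨r, hr⟩ := exists_primitive (F := K) 2 j (fun h => by rw [Nat.odd_iff] at hje; omega)
      have hr0 : r ≠ 0 := hr.ne_zero (by omega)
      have hne : r * r ≠ 1 := by
        rw [← sq]
        intro h
        have := Nat.le_of_dvd two_pos ((hr.pow_eq_one_iff_dvd 2).1 h)
        rw [Nat.odd_iff] at hje
        omega
      have hj2 : r ^ 2 ^ k = r ∨ r ^ 2 ^ k = r⁻¹ := by
        rcases hj with rfl | rfl
        · exact Or.inr (eq_inv_of_mul_eq_one_left (by rw [← pow_succ, hr.pow_eq_one]))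
        · left
          conv_lhs => rw [show 2 ^ k = 2 ^ k - 1 + 1 by omega, pow_succ, hr.pow_eq_one, one_mul]
      haveI : CharP (AlgebraicClosure K) 2 := charP_of_injective_algebraMap
        (algebraMap K (AlgebraicClosure K)).injective 2
      have hfr : (r + r⁻¹) ^ 2 ^ k = r + r⁻¹ := by
        rw [add_pow_char_pow, inv_pow]
        rcases hj2 with h | h <;> rw [h]
        rw [inv_inv, add_comm]
      obtain ⟨t, ht⟩ := mem_range_of_fixed (F := K) (x := r + r⁻¹)
        (by rw [hK, sq, pow_mul, hfr, hfr])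
      have hts : σ t = t := (algebraMap K (AlgebraicClosure K)).injective (by rw [hσ, map_pow, ht, hfr])
      have hrt : r ^ 2 = algebraMap K (AlgebraicClosure K) t * r - 1 := by rw [ht]; field_simp; ring
      set y : Matrix.ProjectiveSpecialLinearGroup (Fin 2) K := QuotientGroup.mk (companion t)
      have hjo : j ∣ orderOf y := by
        have h := (companion_pow_iff hrt hne (orderOf y)).1 (pow_orderOf_eq_one y)
        rw [← pow_mul] at h
        exact (Nat.Coprime.dvd_mul_right (Nat.coprime_two_right.2 hje)).1 ((hr.pow_eq_one_iff_dvd _).1 h)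
      have hoj : orderOf y ∣ j :=
        orderOf_dvd_of_pow_eq_one ((companion_pow_iff hrt hne j).2 (by rw [hr.pow_eq_one, one_pow]))
      obtain ⟨x, hx⟩ := exists_orderOf_mul (φ := φ) hW (g := y) (w := Multiplicative.ofAdd 1)
        (fun e => one_ne_zero (α := Matrix (Fin 2) (Fin 2) K) (congrArg Multiplicative.toAdd e))
        ((sandwich_fixed_iff _ _ _ _).2 (by
          rw [repNat_mk, repTwist_mk, map_companion, hts, toAdd_ofAdd, Matrix.mul_one, Matrix.one_mul]))
        (fun h => by have := h.trans hoj; rw [Nat.odd_iff] at hje; omega)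
      exact ⟨x, hx ▸ Nat.mul_dvd_mul_left 2 hjo⟩
    rcases hM with rfl | rfl | rfl | rfl | ⟨-, rfl⟩ | ⟨h0, -⟩
    · exact lower_torus hK hq (Or.inl rfl)
    · exact lower_torus hK hq (Or.inr rfl)
    · exact mixed (Or.inr rfl)
    · exact mixed (Or.inl rfl)
    · set u : Matrix.SpecialLinearGroup (Fin 2) K := unip 1 with hu
      set y : Matrix.ProjectiveSpecialLinearGroup (Fin 2) K := QuotientGroup.mk u with hy
      set X : Matrix (Fin 2) (Fin 2) K := !![0, 0; 1, 0]
      set x : Multiplicative (Matrix (Fin 2) (Fin 2) K) ⋊[φ] Matrix.ProjectiveSpecialLinearGroup (Fin 2) K :=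
        ⟨Multiplicative.ofAdd X, y⟩
      refine ⟨x, ?_⟩
      have huu : u * u = 1 := by rw [hu, unip_mul, CharTwo.add_self_eq_zero, unip_zero]
      have hy2 : y ^ 2 = 1 := by rw [hy, ← QuotientGroup.mk_pow, sq, huu, QuotientGroup.mk_one]
      have h2 : x ^ 2 ≠ 1 := by
        intro e
        have h1 := congrArg (fun z => (SemidirectProduct.left z).toAdd) e
        rw [sq] at h1
        change X + repNat y * X * repTwist σ y⁻¹ = 0 at h1
        rw [hy, ← QuotientGroup.mk_inv, hu, unip_inv, repNat_mk, repTwist_mk, map_unip] at h1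
        have h0 := congrFun (congrFun h1 0) 0
        simp [X, unip_coe, Matrix.mul_apply, Fin.sum_univ_two] at h0
      rw [orderOf_eq_prime_pow (n := 1) (by rwa [pow_one]) (pow_mul_eq_one hW x hy2)]
      norm_num
    · exact absurd h0 (by norm_num)

/-! ### Fields of order a power of nine -/

section Three

theorem kron_pow (a b : M2) (n : ℕ) : (a ⊗ₖ b) ^ n = (a ^ n) ⊗ₖ (b ^ n) := by
  induction n with
  | zero => rw [pow_zero, pow_zero, pow_zero, Matrix.one_kronecker_one]
  | succ n ih => rw [pow_succ, pow_succ, pow_succ, ih, Matrix.mul_kronecker_mul]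

/-- The quartic relation of a Kronecker product of two elements of `SL₂`. -/
theorem kron_quartic (g h : SL2) :
    ((g : M2) ⊗ₖ (h : M2)) ^ 4 - (trc g * trc h) • ((g : M2) ⊗ₖ (h : M2)) ^ 3 +
      (trc g ^ 2 + trc h ^ 2 - 2) • ((g : M2) ⊗ₖ (h : M2)) ^ 2 -
      (trc g * trc h) • ((g : M2) ⊗ₖ (h : M2)) + 1 = 0 := by
  have e : ∀ a : SL2, (a : M2) ^ 3 = (trc a ^ 2 - 1) • (a : M2) - trc a • 1 ∧
      (a : M2) ^ 4 = (trc a ^ 3 - 2 * trc a) • (a : M2) - (trc a ^ 2 - 1) • 1 := by
    intro a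
    have h3 : (a : M2) ^ 3 = (trc a ^ 2 - 1) • (a : M2) - trc a • 1 := by
      rw [pow_succ, CH, Matrix.sub_mul, Matrix.smul_mul, ← sq, CH, Matrix.one_mul]
      module
    refine ⟨h3, ?_⟩
    rw [pow_succ, h3, Matrix.sub_mul, Matrix.smul_mul, ← sq, CH, Matrix.smul_mul, Matrix.one_mul]
    module
  rw [kron_pow, kron_pow, kron_pow, (e g).1, (e h).1, (e g).2, (e h).2, CH g, CH h, ← Matrix.one_kronecker_one]
  simp only [sub_eq_add_neg, ← neg_smul, ← neg_one_smul K (1 : M2), Matrix.add_kronecker, Matrix.kronecker_add,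
    Matrix.smul_kronecker, Matrix.kronecker_smul]
  module

variable [CharP K 3]

noncomputable def repKron (f₁ f₂ : K →+* K) : PSL2 →* Mkk :=
  liftPSL
    { toFun := fun g => ((Matrix.SpecialLinearGroup.map f₁ g : SL2) : M2) ⊗ₖ
        ((Matrix.SpecialLinearGroup.map f₂ g : SL2) : M2)
      map_one' := by
        rw [map_one, map_one, Matrix.SpecialLinearGroup.coe_one, Matrix.one_kronecker_one]
      map_mul' := fun a b => by
        rw [map_mul, map_mul, Matrix.SpecialLinearGroup.coe_mul, Matrix.SpecialLinearGroup.coe_mul,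
          Matrix.mul_kronecker_mul] }
    (by
      show ((Matrix.SpecialLinearGroup.map f₁ (-1) : SL2) : M2) ⊗ₖ
        ((Matrix.SpecialLinearGroup.map f₂ (-1) : SL2) : M2) = 1
      ext ⟨a, b⟩ ⟨c, d⟩
      simp [Matrix.kroneckerMap_apply, Matrix.one_apply]
      split_ifs <;> simp_all)

theorem repKron_mk (f₁ f₂ : K →+* K) (g : SL2) : repKron f₁ f₂ (QuotientGroup.mk g) =
    ((Matrix.SpecialLinearGroup.map f₁ g : SL2) : M2) ⊗ₖ ((Matrix.SpecialLinearGroup.map f₂ g : SL2) : M2) := rfl

/-- What a fixed vector imposes on the trace. -/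
theorem trace_condition (f f₃ : K →+* K) (hf₃ : ∀ x, f₃ x = f x ^ 3) (g : SL2) {X : Mkk} (hX : X ≠ 0)
    (h : repKron f f₃ (QuotientGroup.mk g) * X =
      X * repKron (RingHom.id K) (RingHom.id K) (QuotientGroup.mk g)) :
    f (trc g) ^ 2 = 4 ∨ f (trc g) = 0 ∨ trc g ^ 2 = f (trc g) ^ 2 ∨
      trc g ^ 2 = f (trc g) ^ 4 - f (trc g) ^ 2 + 1 := by
  by_contra hcon
  push Not at hcon
  obtain ⟨h4, hs0, hβ, hα⟩ := hcon
  set t := trc g
  set s := f t with hs
  have h3 : (3 : K) = 0 := by exact_mod_cast CharP.cast_eq_zero K 3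
  set α := s ^ 4 - 4 * s ^ 2 + 2 with hαd
  set β := s ^ 2 - 2 with hβd
  set γ := t ^ 2 - 2 with hγd
  have e2a : 2 - α ≠ 0 := by
    intro e
    have : s ^ 2 * (s ^ 2 - 4) = 0 := by linear_combination -e
    rcases mul_eq_zero.1 this with e' | e'
    · exact hs0 (pow_eq_zero_iff two_ne_zero |>.1 e')
    · exact h4 (sub_eq_zero.1 e')
  have e2b : 2 - β ≠ 0 := fun e => h4 (by linear_combination -e)
  have egb : γ - β ≠ 0 := fun e => hβ (by linear_combination e)
  have ega : γ - α ≠ 0 := fun e => hα (by linear_combination e + (-(s ^ 2) + 1) * h3)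
  set A : Mkk := repKron f f₃ (QuotientGroup.mk g) with hA
  set B : Mkk := repKron (RingHom.id K) (RingHom.id K) (QuotientGroup.mk g) with hB
  set Pa : K[X] := Polynomial.X ^ 4 - C (t * t) * Polynomial.X ^ 3 + C (t ^ 2 + t ^ 2 - 2) * Polynomial.X ^ 2 -
    C (t * t) * Polynomial.X + 1 with hPa
  set Ph : K[X] := Polynomial.X ^ 4 - C (s * s ^ 3) * Polynomial.X ^ 3 +
    C (s ^ 2 + (s ^ 3) ^ 2 - 2) * Polynomial.X ^ 2 - C (s * s ^ 3) * Polynomial.X + 1 with hPh
  have hmap : ∀ g' : SL2, Matrix.SpecialLinearGroup.map (RingHom.id K) g' = g' := fun g' =>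
    Subtype.ext (by ext i j; simp)
  have hBP : aeval B Pa = 0 := by
    have := kron_quartic g g
    rw [hB, repKron_mk, hmap]
    simpa [hPa, Algebra.smul_def] using this
  have hAP : aeval A Ph = 0 := by
    have := kron_quartic (Matrix.SpecialLinearGroup.map f g) (Matrix.SpecialLinearGroup.map f₃ g)
    rw [trc_map, trc_map, hf₃, ← hs] at this
    rw [hA, repKron_mk]
    simpa [hPh, Algebra.smul_def] using this
  have hint : ∀ P : K[X], aeval A P * X = X * aeval B P := by
    intro P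
    induction P using Polynomial.induction_on' with
    | add a b ha hb => rw [map_add, map_add, Matrix.add_mul, ha, hb, Matrix.mul_add]
    | monomial i c =>
      rw [aeval_monomial, aeval_monomial, ← Algebra.smul_def, ← Algebra.smul_def, Matrix.smul_mul,
        Matrix.mul_smul]
      congr 1
      induction i with
      | zero => rw [pow_zero, pow_zero, Matrix.one_mul, Matrix.mul_one]
      | succ i ih => rw [pow_succ, pow_succ, Matrix.mul_assoc, h, ← Matrix.mul_assoc, ih, Matrix.mul_assoc]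
  have hPaX : aeval A Pa * X = 0 := by rw [hint, hBP, Matrix.mul_zero]
  have hA2 : ∀ Y : Mkk, aeval A ((Polynomial.X : K[X]) ^ 2) * Y = 0 → Y = 0 := by
    intro Y hY
    rw [map_pow, aeval_X] at hY
    have hinv : repKron f f₃ (QuotientGroup.mk g)⁻¹ ^ 2 * A ^ 2 = 1 := by
      rw [hA, ← map_pow, ← map_pow, ← map_mul, inv_pow, inv_mul_cancel, map_one]
    rw [← Matrix.one_mul Y, ← hinv, Matrix.mul_assoc, hY, Matrix.mul_zero]
  set m : K[X] := Polynomial.X ^ 2 - C γ * Polynomial.X + 1 with hm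
  have hC3 : (C (3 : K) : K[X]) = 0 := by rw [h3, C_0]
  have hPh' : Ph = (Polynomial.X ^ 2 - C α * Polynomial.X + 1) * (Polynomial.X ^ 2 - C β * Polynomial.X + 1) := by
    rw [hPh, hαd, hβd]
    have e : (3 : K[X]) = 0 := by rw [← map_ofNat C 3]; exact hC3
    simp only [map_sub, map_add, map_mul, map_pow, map_ofNat]
    linear_combination (- C s ^ 2 * Polynomial.X ^ 3 + (2 * C s ^ 4 - 3 * C s ^ 2) * Polynomial.X ^ 2
      - C s ^ 2 * Polynomial.X) * e
  have hPa' : Pa = (Polynomial.X - 1) ^ 2 * m := by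
    rw [hPa, hm, hγd]
    simp only [map_sub, map_add, map_mul, map_pow, map_ofNat]
    ring
  have hkey1 : C ((2 - α) * (2 - β)) * (Polynomial.X ^ 2 * m) =
      m * Ph - ((Polynomial.X - 1) ^ 2 + C (4 - α - β) * Polynomial.X) * Pa := by
    rw [hPh', hPa']
    simp only [map_sub, map_add, map_mul, map_ofNat]
    ring
  have kill : ∀ (c : K) (Q U V P₁ P₂ : K[X]), C c * Q = U * P₁ - V * P₂ → aeval A P₁ = 0 → aeval A P₂ * X = 0 →
      c ≠ 0 → aeval A Q * X = 0 := by
    intro c Q U V P₁ P₂ he h₁ h₂ hc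
    have h1 := congrArg (fun P => aeval A P * X) he
    simp only [map_sub, map_mul, h₁, Matrix.mul_zero, zero_sub, Matrix.neg_mul] at h1
    rw [Matrix.mul_assoc (aeval A V), h₂, Matrix.mul_zero, neg_zero, aeval_C, ← Algebra.smul_def,
      Matrix.smul_mul, smul_eq_zero] at h1
    exact h1.resolve_left hc
  have hmX : aeval A m * X = 0 := by
    refine hA2 _ ?_
    rw [← Matrix.mul_assoc, ← map_mul]
    exact kill _ _ _ _ _ _ hkey1 hAP hPaX (mul_ne_zero e2a e2b)
  have hkey2 : C ((γ - α) * (γ - β)) * Polynomial.X ^ 2 =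
      1 * Ph - (m + C ((γ - α) + (γ - β)) * Polynomial.X) * m := by
    rw [hPh', hm]
    simp only [map_sub, map_add, map_mul]
    ring
  exact hX (hA2 _ (kill _ _ _ _ _ _ hkey2 hAP hmX (mul_ne_zero ega egb)))

theorem five_exponent {k : ℕ} (hK : Fintype.card K = (3 ^ k) ^ 2) (g : SL2)
    (h : trc g ^ 2 = (trc g ^ 3 ^ k) ^ 4 - (trc g ^ 3 ^ k) ^ 2 + 1) :
    (QuotientGroup.mk g : PSL2) ^ 5 = 1 ∨ (QuotientGroup.mk g : PSL2) ^ 3 = 1 := by
  haveI : Fact (Nat.Prime 3) := ⟨by norm_num⟩
  obtain ⟨r, hr, hr0⟩ := exists_eigen g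
  haveI : CharP (AlgebraicClosure K) 3 := charP_of_injective_algebraMap
    (algebraMap K (AlgebraicClosure K)).injective 3
  by_cases hne : r * r = 1
  · exact Or.inr (mk_pow_char hr hne)
  set ι := algebraMap K (AlgebraicClosure K) with hι
  have h3 : (3 : AlgebraicClosure K) = 0 := by exact_mod_cast CharP.cast_eq_zero (AlgebraicClosure K) 3
  set R := r ^ 3 ^ k with hR
  have hR0 : R ≠ 0 := pow_ne_zero _ hr0
  have hR2 : R ^ 2 = ι (trc g ^ 3 ^ k) * R - 1 := by
    rw [hR, ← pow_mul, mul_comm (3 ^ k) 2, pow_mul, hr, sub_pow_char_pow, mul_pow, one_pow, map_pow]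
  have e1 : r ^ 2 + (r ^ 2)⁻¹ = ι (trc g) ^ 2 - 2 := by
    have : ι (trc g) = r + r⁻¹ := by field_simp; linear_combination -hr
    rw [this]; field_simp; ring
  have e2 : R ^ 4 + (R ^ 4)⁻¹ = r ^ 2 + (r ^ 2)⁻¹ := by
    rw [e1]
    have hs : ι (trc g ^ 3 ^ k) = R + R⁻¹ := by field_simp; linear_combination -hR2
    have h' := congrArg ι h
    simp only [map_pow, map_add, map_sub, map_one] at h' hs
    rw [h', hs]
    field_simp
    linear_combination (R ^ 6 + 2 * R ^ 4 + R ^ 2) * h3 * (-1 : AlgebraicClosure K) + R ^ 4 * h3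
  have hu : (r ^ 2) ^ 2 - (r ^ 2 + (r ^ 2)⁻¹) * r ^ 2 + 1 = 0 := by field_simp; ring
  have hR4 : R ^ 4 = r ^ 2 ∨ R ^ 4 = (r ^ 2)⁻¹ :=
    root_eq hu (by rw [← e2]; field_simp; ring)
  have hrr : R ^ 3 ^ k = r ∨ R ^ 3 ^ k = r⁻¹ := by
    have h1 : (R ^ 3 ^ k) ^ 2 = ι ((trc g ^ 3 ^ k) ^ 3 ^ k) * R ^ 3 ^ k - 1 := by
      rw [← pow_mul, mul_comm (3 ^ k) 2, pow_mul, hR2, sub_pow_char_pow, mul_pow, one_pow, map_pow _ (trc g ^ 3 ^ k)]
    rw [frob_fix hK] at h1
    exact root_eq (u := ι (trc g)) (by linear_combination hr) (by linear_combination h1)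
  -- `r ^ 8 = r ^ (± 2)`
  have h8 : r ^ 10 = 1 ∨ r ^ 6 = 1 := by
    have ha : (R ^ 4) ^ 3 ^ k = (R ^ 3 ^ k) ^ 4 := by rw [← pow_mul R, ← pow_mul R, mul_comm]
    have hb : (R ^ 4) ^ 3 ^ k = R ^ 2 ∨ (R ^ 4) ^ 3 ^ k = (R ^ 2)⁻¹ := by
      rcases hR4 with e | e
      · left; rw [e, hR, ← pow_mul, ← pow_mul, mul_comm]
      · right; rw [e, inv_pow, hR, ← pow_mul, ← pow_mul, mul_comm]
    rw [ha] at hb
    have hc : R ^ 2 = r ^ 4 ∨ R ^ 2 = (r ^ 4)⁻¹ := by
      rcases hrr with e | e <;> rw [e] at hb <;> rcases hb with e' | e'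
      · exact Or.inl e'.symm
      · exact Or.inr (by rw [e', inv_inv])
      · exact Or.inr (by rw [← e', inv_pow])
      · exact Or.inl (by rw [inv_pow] at e'; exact (inv_injective e').symm)
    have hd : R ^ 4 = r ^ 8 ∨ R ^ 4 = (r ^ 8)⁻¹ := by
      rcases hc with e | e
      · left; rw [show R ^ 4 = (R ^ 2) ^ 2 by ring, e]; ring
      · right; rw [show R ^ 4 = (R ^ 2) ^ 2 by ring, e, inv_pow]; ring
    have hr2 : r ^ 2 ≠ 0 := pow_ne_zero _ hr0
    rcases hd with e | e <;> rcases hR4 with e' | e' <;> rw [e] at e'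
    · right; exact mul_right_cancel₀ hr2 (by rw [one_mul, ← pow_add]; exact e')
    · left; rw [show r ^ 10 = r ^ 8 * r ^ 2 by ring, e', inv_mul_cancel₀ hr2]
    · left
      rw [show r ^ 10 = r ^ 8 * r ^ 2 by ring, ← e', mul_inv_cancel₀ (pow_ne_zero _ hr0)]
    · right
      exact mul_right_cancel₀ hr2 (by rw [one_mul, ← pow_add]; exact inv_injective e')
  left
  refine mk_pow_of_root hr hne ?_
  rw [← pow_mul]
  rcases h8 with e | e
  · exact e
  · exfalso
    have : (r * r - 1) ^ 3 = 0 := by linear_combination e + (-(r ^ 4) + r ^ 2) * h3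
    exact hne (sub_eq_zero.1 (pow_eq_zero_iff (n := 3) (by norm_num) |>.1 this))

end Three

theorem five_dvd {t : ℕ} (ht : 1 ≤ t) : 5 ∣ 3 ^ (2 * t) - 1 ∨ 5 ∣ 3 ^ (2 * t) + 1 := by
  rw [pow_mul]
  rcases Nat.even_or_odd t with ⟨j, rfl⟩ | h
  · left
    rw [show j + j = 2 * j by ring, pow_mul]
    exact (show 5 ∣ (3 ^ 2) ^ 2 - 1 by norm_num).trans (Nat.sub_one_dvd_pow_sub_one _ j)
  · right
    have := h.nat_add_dvd_pow_add_pow (3 ^ 2) 1
    simp at this
    exact (show 5 ∣ 10 by norm_num).trans (by simpa using this)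

/-- Covers when the field has order a power of nine. -/
theorem cover_three {F : Type u} [Field F] [Fintype F] [CharP F 3] {k t : ℕ} (hk : Fintype.card F = 3 ^ k)
    (hkt : k = 2 * t) (ht : 1 ≤ t) (N : ℕ) :
    ∃ (H : Type) (_ : Group H) (_ : Fintype H), N < Fintype.card H ∧
      Set.range (orderOf : H → ℕ) = Set.range (orderOf : Cfsg.PSp 2 F → ℕ) := by
  classical
  haveI : Fact (Nat.Prime 3) := ⟨by norm_num⟩
  let K := GaloisField 3 (2 * k)
  letI : Fintype K := Fintype.ofFinite K
  have hK : Fintype.card K = (3 ^ k) ^ 2 := by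
    rw [← Nat.card_eq_fintype_card, GaloisField.card 3 (2 * k) (by omega), ← pow_mul, mul_comm]
  set f : K →+* K := iterateFrobenius K 3 k
  set f₃ : K →+* K := (frobenius K 3).comp f
  have hf : ∀ x, f x = x ^ 3 ^ k := fun x => iterateFrobenius_def 3 k x
  have hf₃ : ∀ x, f₃ x = f x ^ 3 := fun x => frobenius_def (p := 3) (f x)
  let φ := sandwich (repKron f f₃) (repKron (RingHom.id K) (RingHom.id K))
  have hW : ∀ a : Multiplicative (Matrix (Fin 2 × Fin 2) (Fin 2 × Fin 2) K), a ^ 3 = 1 := fun a =>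
    sandwich_exponent 3 a
  haveI : Finite (Matrix.SpecialLinearGroup (Fin 2) K) := Subtype.finite
  have hq : 3 ≤ Fintype.card F := by rw [hk]; exact Nat.le_self_pow (by omega) 3
  refine conclude (φ := φ) (p := 3) hq hW (fun x => ?_) (fun M hM => ?_) N
  · rw [hk]
    refine upper_of hK hW (fun g w hw hwf => ?_) x
    have h := (sandwich_fixed_iff _ _ _ _).1 hwf
    have hc := trace_condition f f₃ hf₃ g (X := w.toAdd) (fun e => hw (Multiplicative.toAdd.injective e)) h
    rw [hf] at hc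
    have key : trc g ^ 3 ^ k = trc g ∨ trc g ^ 3 ^ k = -trc g →
        ∃ n : ℕ, (QuotientGroup.mk g : Matrix.ProjectiveSpecialLinearGroup (Fin 2) K) ^ n = 1 ∧
          n * 3 ∈ allowed 3 (3 ^ k) := by
      intro ht'
      obtain ⟨n, hn, hcases⟩ := exists_exponent (p := 3) (k := k) g ht'
      refine ⟨n, hn, ?_⟩
      rcases hcases with rfl | rfl | rfl
      · exact Or.inr (Or.inr (Or.inr (Or.inr (Or.inr ⟨rfl, by norm_num⟩))))
      · exact Or.inr (Or.inr (Or.inl (by rw [mul_comm])))
      · exact Or.inr (Or.inr (Or.inr (Or.inl (by rw [mul_comm]))))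
    have hfix : ∀ c : K, c ^ 3 ^ k = c → trc g ^ 3 ^ k = c → trc g ^ 3 ^ k = trc g := fun c hc1 hc2 => by
      have := frob_fix hK (trc g)
      rw [hc2, hc1] at this
      rw [hc2, this]
    rcases hc with h4 | h0 | hb | ha
    · refine key (Or.inl ?_)
      have : (trc g ^ 3 ^ k - 2) * (trc g ^ 3 ^ k + 2) = 0 := by linear_combination h4
      have h2 : (2 : K) = -1 := by
        have : (3 : K) = 0 := by exact_mod_cast CharP.cast_eq_zero K 3
        linear_combination this
      rcases mul_eq_zero.1 this with e | e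
      · exact hfix (-1) (by rw [Odd.neg_one_pow (Odd.pow (by decide))]) (by linear_combination e + h2)
      · exact hfix 1 (one_pow _) (by linear_combination e - h2)
    · exact key (Or.inl (hfix 0 (zero_pow (by positivity)) h0))
    · exact key ((sq_eq_sq_iff_eq_or_eq_neg.1 hb.symm))
    · rcases five_exponent hK g ha with e | e
      · refine ⟨5, e, ?_⟩
        rcases five_dvd ht with h5 | h5
        · exact Or.inr (Or.inr (Or.inl (by rw [mul_comm 5]; exact Nat.mul_dvd_mul_left 3 (hkt ▸ h5))))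
        · exact Or.inr (Or.inr (Or.inr (Or.inl (by rw [mul_comm 5]; exact Nat.mul_dvd_mul_left 3 (hkt ▸ h5)))))
      · exact ⟨3, e, Or.inr (Or.inr (Or.inr (Or.inr (Or.inr ⟨rfl, by norm_num⟩))))⟩
  · rw [hk] at hM hq
    have hk9 : 9 ≤ 3 ^ k := by
      calc 9 = 3 ^ 2 := by norm_num
        _ ≤ 3 ^ k := Nat.pow_le_pow_right (by norm_num) (by omega)
    have mixed : ∀ {j : ℕ}, j = 3 ^ k + 1 ∨ j = 3 ^ k - 1 →
        ∃ x : Multiplicative (Matrix (Fin 2 × Fin 2) (Fin 2 × Fin 2) K) ⋊[φ]
          Matrix.ProjectiveSpecialLinearGroup (Fin 2) K, 3 * j ∣ orderOf x := by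
      intro j hj
      have h3j : ¬ 3 ∣ 2 * j := by
        have : 3 ∣ 3 ^ k := dvd_pow_self 3 (by omega)
        omega
      obtain ⟨r, hr⟩ := exists_primitive (F := K) 3 (2 * j) h3j
      have hr0 : r ≠ 0 := hr.ne_zero (by omega)
      have hne : r * r ≠ 1 := by
        rw [← sq]
        intro h
        have := Nat.le_of_dvd two_pos ((hr.pow_eq_one_iff_dvd 2).1 h)
        omega
      have hrj : r ^ j = -1 := by
        have h1 : r ^ (2 * j) = 1 := hr.pow_eq_one
        refine (pow_two_mul h1).resolve_left fun h => ?_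
        have := Nat.le_of_dvd (by omega) ((hr.pow_eq_one_iff_dvd j).1 h)
        omega
      have hj2 : r ^ 3 ^ k = -r ∨ r ^ 3 ^ k = -r⁻¹ := by
        rcases hj with rfl | rfl
        · right
          refine mul_right_cancel₀ hr0 ?_
          rw [← pow_succ, hrj, neg_mul, inv_mul_cancel₀ hr0]
        · left
          conv_lhs => rw [show 3 ^ k = 3 ^ k - 1 + 1 by omega, pow_succ, hrj, neg_one_mul]
      haveI : CharP (AlgebraicClosure K) 3 := charP_of_injective_algebraMap
        (algebraMap K (AlgebraicClosure K)).injective 3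
      have hfr : (r + r⁻¹) ^ 3 ^ k = -(r + r⁻¹) := by
        rw [add_pow_char_pow, inv_pow]
        rcases hj2 with h | h <;> rw [h]
        · rw [inv_neg]; ring
        · rw [inv_neg, inv_inv]; ring
      have hodd : Odd (3 ^ k) := Odd.pow (by decide)
      obtain ⟨u, hu⟩ := mem_range_of_fixed (F := K) (x := r + r⁻¹)
        (by rw [hK, sq, pow_mul, hfr, hodd.neg_pow, hfr, neg_neg])
      have hfu : f u = -u := (algebraMap K (AlgebraicClosure K)).injective (by rw [hf, map_pow, map_neg, hu, hfr])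
      have hrt : r ^ 2 = algebraMap K (AlgebraicClosure K) u * r - 1 := by rw [hu]; field_simp; ring
      set y : Matrix.ProjectiveSpecialLinearGroup (Fin 2) K := QuotientGroup.mk (companion u) with hy
      have hjo : j ∣ orderOf y := by
        have h := (companion_pow_iff hrt hne (orderOf y)).1 (pow_orderOf_eq_one y)
        rw [← pow_mul r, mul_comm (orderOf y) 2] at h
        exact Nat.dvd_of_mul_dvd_mul_left two_pos ((hr.pow_eq_one_iff_dvd _).1 h)
      have hoj : orderOf y ∣ j :=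
        orderOf_dvd_of_pow_eq_one ((companion_pow_iff hrt hne j).2 (by rw [hrj]; ring))
      set ι := algebraMap K (AlgebraicClosure K)
      have h3L : (3 : AlgebraicClosure K) = 0 := by exact_mod_cast CharP.cast_eq_zero (AlgebraicClosure K) 3
      set A : Matrix (Fin 2 × Fin 2) (Fin 2 × Fin 2) K := repKron f f₃ y with hA
      set B : Matrix (Fin 2 × Fin 2) (Fin 2 × Fin 2) K := repKron (RingHom.id K) (RingHom.id K) y with hB
      obtain ⟨Y, hY, hAY⟩ : ∃ Y, Y ≠ 0 ∧ A * Y = Y * B := by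
        let v : Fin 2 × Fin 2 → AlgebraicClosure K := fun i => ![-r⁻¹, 1] i.1 * ![(-r) ^ 3, 1] i.2
        let w : Fin 2 × Fin 2 → AlgebraicClosure K := fun i => ![1, -r⁻¹] i.1 * ![1, -r⁻¹] i.2
        refine exists_fixed_descent (L := AlgebraicClosure K) (X := Matrix.vecMulVec v w) ?_ ?_
        · intro e
          have := congrFun (congrFun e (1, 1)) (0, 0)
          simp [Matrix.vecMulVec, v, w] at this
        have hv : A.map ι *ᵥ v = r ^ 2 • v := by
          rw [hA, hy, repKron_mk, map_companion, map_companion, hf₃, hfu]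
          funext i
          obtain ⟨i₁, i₂⟩ := i
          fin_cases i₁ <;> fin_cases i₂ <;>
            simp [v, companion, Matrix.mulVec, dotProduct, Fintype.sum_prod_type, Fin.sum_univ_two,
              Matrix.kroneckerMap_apply, hu] <;> field_simp <;> ring_nf <;> simp [h3L]
        have hw : w ᵥ* B.map ι = r ^ 2 • w := by
          rw [hB, hy, repKron_mk, map_companion]
          funext i
          obtain ⟨i₁, i₂⟩ := i
          fin_cases i₁ <;> fin_cases i₂ <;>
            simp [w, companion, Matrix.vecMul, dotProduct, Fintype.sum_prod_type, Fin.sum_univ_two,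
              Matrix.kroneckerMap_apply, hu] <;> field_simp <;> ring_nf <;> simp [h3L]
        rw [Matrix.mul_vecMulVec, Matrix.vecMulVec_mul, hv, hw, Matrix.smul_vecMulVec, Matrix.vecMulVec_smul]
      obtain ⟨x, hx⟩ := exists_orderOf_mul (φ := φ) hW (g := y) (w := Multiplicative.ofAdd Y)
        (fun e => hY (congrArg Multiplicative.toAdd e)) ((sandwich_fixed_iff _ _ _ _).2 hAY)
        (fun h => h3j ((h.trans hoj).mul_left 2))
      exact ⟨x, hx ▸ Nat.mul_dvd_mul_left 3 hjo⟩
    rcases hM with rfl | rfl | rfl | rfl | ⟨h0, -⟩ | ⟨-, rfl⟩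
    · exact lower_torus hK hq (Or.inl rfl)
    · exact lower_torus hK hq (Or.inr rfl)
    · exact mixed (Or.inr rfl)
    · exact mixed (Or.inl rfl)
    · exact absurd h0 (by norm_num)
    · set u : Matrix.SpecialLinearGroup (Fin 2) K := unip 1 with hu
      set y : Matrix.ProjectiveSpecialLinearGroup (Fin 2) K := QuotientGroup.mk u with hy
      set X : Matrix (Fin 2 × Fin 2) (Fin 2 × Fin 2) K := Matrix.single (1, 1) (1, 1) 1
      set x : Multiplicative (Matrix (Fin 2 × Fin 2) (Fin 2 × Fin 2) K) ⋊[φ]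
          Matrix.ProjectiveSpecialLinearGroup (Fin 2) K := ⟨Multiplicative.ofAdd X, y⟩
      refine ⟨x, ?_⟩
      have h3K : (3 : K) = 0 := by exact_mod_cast CharP.cast_eq_zero K 3
      have hy3 : y ^ 3 = 1 := by
        rw [hy, ← QuotientGroup.mk_pow, pow_succ, sq, hu, unip_mul, unip_mul,
          show (1 + 1 + 1 : K) = 0 by linear_combination h3K, unip_zero, QuotientGroup.mk_one]
      have h3 : x ^ 3 ≠ 1 := by
        intro e
        have h1 := congrArg (fun z => (SemidirectProduct.left z).toAdd) e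
        rw [pow_succ, sq] at h1
        change X + repKron f f₃ y * X * repKron (RingHom.id K) (RingHom.id K) y⁻¹ +
          repKron f f₃ (y * y) * X * repKron (RingHom.id K) (RingHom.id K) (y * y)⁻¹ = 0 at h1
        rw [hy, hu, ← QuotientGroup.mk_mul, ← QuotientGroup.mk_inv, ← QuotientGroup.mk_inv, unip_mul, unip_inv,
          unip_inv, repKron_mk, repKron_mk, repKron_mk, repKron_mk] at h1
        simp only [map_unip] at h1
        have h0 := congrFun (congrFun h1 (0, 0)) (1, 1)
        simp [X, unip_coe, Matrix.mul_apply, Fintype.sum_prod_type, Fin.sum_univ_two, Matrix.kroneckerMap_apply,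
          Matrix.single_apply, hf₃, map_add] at h0
        exact seventeen_ne h3K h0
      rw [orderOf_eq_prime_pow (n := 1) (by rwa [pow_one]) (pow_mul_eq_one hW x hy3)]
      norm_num

end Cfsg.Lib.Spec.PSpFour
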